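import Groth.Agent.L15.Frob.PBasisSmooth
import Mathlib.FieldTheory.Perfect
import Mathlib.RingTheory.RingHom.FaithfullyFlat
import Mathlib.AlgebraicGeometry.AffineScheme

/-! The Frobenius of a smooth algebra over a perfect ring is faithfully flat and a p-th root morphism. -/

set_option autoImplicit false
set_option linter.style.haveILetI false

universe u

open TensorProduct FrobAlg CategoryTheory AlgebraicGeometry

noncomputable section

namespace Groth.L15.Frob

variable (p : ℕ) [hp : Fact p.Prime] (k : Type u) [CommRing k] [CharP k p] [PerfectRing k p]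

theorem exists_incl_equiv (B : Type u) [CommRing B] [Algebra k B] [CharP B p] :
    ∃ e : B ≃+* BaseChange p k B, (relFrob p k B).comp e.toRingHom = frobenius B p := by
  let j : B →+* BaseChange p k B := Algebra.TensorProduct.includeLeftRingHom
  have hbij : Function.Bijective (algebraMap k (Twist p k)) :=
    (toTwist p k).bijective.comp (PerfectRing.bijective_frobenius (R := k) (p := p))
  let τ : k ≃ₐ[k] Twist p k := AlgEquiv.ofBijective (Algebra.ofId k (Twist p k)) hbij
  have hj : Function.Bijective j := by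
    have he : (j : B → BaseChange p k B) = (Algebra.TensorProduct.congr (AlgEquiv.refl (R := k) (A₁ := B)) τ) ∘
        (Algebra.TensorProduct.rid k k B).symm := funext fun b => by simp [j]
    rw [he]
    exact (AlgEquiv.bijective _).comp (AlgEquiv.bijective _)
  refine ⟨RingEquiv.ofBijective j hj, RingHom.ext fun b => ?_⟩
  simp [j, relFrob_tmul, frobenius_def]

variable (A : Type u) [CommRing A] [Algebra k A] [CharP A p] [Algebra.Smooth k A]
include k

theorem faithfullyFlat_frobenius : (frobenius A p).FaithfullyFlat := by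
  obtain ⟨e, he⟩ := exists_incl_equiv p k A
  rw [RingHom.FaithfullyFlat.iff_flat_and_comap_surjective]
  refine ⟨?_, fun q => ⟨q, PrimeSpectrum.ext (Ideal.ext fun a => ?_)⟩⟩
  · rw [← he]
    exact RingHom.Flat.comp (RingHom.Flat.of_bijective e.bijective) (flat_relFrob p k A)
  · change a ^ p ∈ q.asIdeal ↔ a ∈ q.asIdeal
    exact ⟨fun h => q.2.mem_of_pow_mem p h, fun h => Ideal.pow_mem_of_mem _ h p hp.out.pos⟩

theorem isPthRoot_frobenius : Quiet.IsPthRoot p (Spec.map (CommRingCat.ofHom (frobenius A p))) := by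
  intro x
  obtain ⟨s, hs, hsm⟩ := Algebra.Smooth.exists_span_eq_top_isStandardSmooth (R := k) (S := A)
  obtain ⟨g, hgs, hgx⟩ : ∃ g ∈ s, g ∉ x.asIdeal := by
    by_contra! hle
    exact x.2.ne_top (top_le_iff.1 (hs ▸ Ideal.span_le.2 hle))
  let X := Spec (CommRingCat.of A)
  let φ := Spec.map (CommRingCat.ofHom (frobenius A p))
  let σ : A →+* Γ(X, ⊤) := (Scheme.ΓSpecIso (CommRingCat.of A)).inv.hom
  let r : Γ(X, ⊤) := σ g
  have hφ : ∀ a, φ.appTop (σ a) = σ a ^ p := fun a => by
    rw [← map_pow]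
    exact (congr($(Scheme.ΓSpecIso_inv_naturality (CommRingCat.ofHom (frobenius A p))) a)).symm
  have hpre : φ ⁻¹ᵁ X.basicOpen r = X.basicOpen r := by
    rw [Scheme.preimage_basicOpen_top, hφ]; exact X.basicOpen_pow _ hp.out.pos
  have hxU : x ∈ X.basicOpen r := by
    rw [show X.basicOpen r = PrimeSpectrum.basicOpen g from basicOpen_eq_of_affine _]
    exact hgx
  let L := Localization.Away g
  haveI : Algebra.IsStandardSmooth k L := hsm g hgs
  obtain ⟨n, hn⟩ := exists_relativeDimension k L
  haveI : Nontrivial L := by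
    refine ⟨⟨1, 0, fun h => hgx ?_⟩⟩
    obtain ⟨⟨_, m, rfl⟩, hm⟩ := (IsLocalization.map_eq_zero_iff (Submonoid.powers g) L (1 : A)).1
      (by rw [map_one]; exact h)
    refine x.2.mem_of_pow_mem m ?_
    rw [← mul_one (g ^ m)]
    exact hm ▸ zero_mem _
  haveI : CharP L p := by
    refine (CharP.charP_iff_prime_eq_zero hp.out).2 ?_
    rw [← map_natCast (algebraMap A L), CharP.cast_eq_zero, map_zero]
  obtain ⟨y, hy⟩ := exists_hasBasis_relFrob p k n L
  obtain ⟨e, he⟩ := exists_incl_equiv p k L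
  have hyF : HasBasis (frobenius L p) (monom p y) := he ▸ hy.comp_ringEquiv e
  have hU : IsAffineOpen (X.basicOpen r) := (isAffineOpen_top X).basicOpen r
  refine ⟨⟨X.basicOpen r, hU⟩, hxU, by rw [hpre]; exact hU, ?_⟩
  have hloc : ∀ V : X.Opens, V = X.basicOpen r →
      letI := ((X.presheaf.map (homOfLE (le_top : V ≤ ⊤)).op).hom.comp σ).toAlgebra
      IsLocalization.Away g Γ(X, V) := by
    rintro V rfl
    letI := ((X.presheaf.map (homOfLE (le_top : X.basicOpen r ≤ ⊤)).op).hom.comp σ).toAlgebra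
    have h := IsLocalization.isLocalization_of_base_ringEquiv (Submonoid.powers r) Γ(X, X.basicOpen r)
      (Scheme.ΓSpecIso (CommRingCat.of A)).commRingCatIsoToRingEquiv
    have hr : (Scheme.ΓSpecIso (CommRingCat.of A)).commRingCatIsoToRingEquiv r = g :=
      (Scheme.ΓSpecIso (CommRingCat.of A)).commRingCatIsoToRingEquiv.apply_symm_apply g
    rw [Submonoid.map_powers] at h
    show IsLocalization (Submonoid.powers g) _
    rw [← hr]
    exact h
  letI aR := ((X.presheaf.map (homOfLE (le_top : X.basicOpen r ≤ ⊤)).op).hom.comp σ).toAlgebra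
  letI aS := ((X.presheaf.map (homOfLE (le_top : φ ⁻¹ᵁ X.basicOpen r ≤ ⊤)).op).hom.comp σ).toAlgebra
  haveI := hloc _ rfl
  haveI := hloc _ hpre
  let e₁ : Γ(X, X.basicOpen r) ≃ₐ[A] L := IsLocalization.algEquiv (Submonoid.powers g) _ _
  let e₂ : L ≃ₐ[A] Γ(X, φ ⁻¹ᵁ X.basicOpen r) := IsLocalization.algEquiv (Submonoid.powers g) _ _
  have happ : (φ.app (X.basicOpen r)).hom =
      (e₂.toRingEquiv.toRingHom.comp (frobenius L p)).comp e₁.toRingEquiv.toRingHom := by
    refine IsLocalization.ringHom_ext (Submonoid.powers g) (RingHom.ext fun a => ?_)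
    change _ = e₂ (e₁ (algebraMap A _ a) ^ p)
    rw [AlgEquiv.commutes, map_pow, AlgEquiv.commutes]
    change φ.app (X.basicOpen r) (X.presheaf.map (homOfLE (le_top : X.basicOpen r ≤ ⊤)).op (σ a)) =
      (X.presheaf.map (homOfLE (le_top : φ ⁻¹ᵁ X.basicOpen r ≤ ⊤)).op (σ a)) ^ p
    rw [← map_pow, ← hφ]
    exact congr($(φ.naturality (homOfLE (le_top : X.basicOpen r ≤ ⊤)).op) (σ a))
  letI := (φ.app (X.basicOpen r)).hom.toAlgebra
  refine ⟨n, isRootTower_of_hasBasis p hp.out.ne_zero n _ _ (fun i => e₁.symm (y i)) (fun i => e₂ (y i)) (fun i => ?_) ?_⟩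
  · rw [RingHom.algebraMap_toAlgebra, happ]
    simp [frobenius_def]
  · have h2 := (hyF.ringEquiv_comp e₂.toRingEquiv).comp_ringEquiv e₁.toRingEquiv
    rw [← happ] at h2
    exact h2.congr_family fun i => (map_monom e₂.toRingEquiv.toRingHom p y i).symm

end Groth.L15.Frob
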