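import Groth.Agent.L15.Frob.PBasis
import Mathlib.RingTheory.Smooth.StandardSmoothCotangent
import Mathlib.RingTheory.Etale.Kaehler
import Mathlib.RingTheory.Spectrum.Prime.FreeLocus
import Mathlib.RingTheory.Localization.BaseChange
import Mathlib.RingTheory.Finiteness.ModuleFinitePresentation
import Mathlib.RingTheory.Finiteness.FiniteTypeLocal

/-! The relative Frobenius of a smooth algebra is finite projective of rank `p` to the relative dimension. -/

set_option autoImplicit false
set_option linter.style.haveILetI false

universe u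

open TensorProduct FrobAlg

noncomputable section

namespace Groth.L15.Frob

variable (p : ℕ) [hp : Fact p.Prime] (A : Type u) [CommRing A] [CharP A p]

theorem finite_projective_of_flat {A' : Type u} [CommRing A'] {D B : Type u} [CommRing D] [CommRing B] [Algebra A' B]
    [Algebra.FinitePresentation A' B] (c : D →+* B) (d : A' →+* D) (hcd : c.comp d = algebraMap A' B)
    (hd : d.FiniteType) (hc : c.Flat) (h : ∀ b, b ^ p ∈ c.range) :
    letI := c.toAlgebra
    Module.Finite D B ∧ Module.Projective D B := by
  algebraize [c, d]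
  haveI : IsScalarTower A' D B := IsScalarTower.of_algebraMap_eq fun a => (RingHom.congr_fun hcd a).symm
  haveI : Algebra.FinitePresentation D B :=
    Algebra.FinitePresentation.of_restrict_scalars_finitePresentation A' D B
  haveI : Algebra.IsIntegral D B := ⟨fun b => by
    obtain ⟨x, hx⟩ := h b
    exact IsIntegral.of_pow hp.out.pos (by rw [← hx]; exact isIntegral_algebraMap (R := D) (A := B) (x := x))⟩
  haveI : Module.Finite D B := Algebra.IsIntegral.finite
  haveI : Module.FinitePresentation D B := Module.FinitePresentation.of_finite_of_finitePresentation D B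
  exact ⟨inferInstance, Module.Flat.projective_of_finitePresentation⟩

theorem rankAtStalk_of_away {D D' B L : Type u} [CommRing D] [CommRing D'] [CommRing B] [CommRing L]
    [Algebra D B] [Module.Finite D B] [Module.Flat D B] [Algebra D D'] [Algebra B L] (x : D) (c' : D' →+* L)
    (h₁ : IsLocalization.Away x D') (h₂ : IsLocalization.Away (algebraMap D B x) L)
    (hsq : ∀ d, c' (algebraMap D D' d) = algebraMap B L (algebraMap D B d))
    {ι : Type} [Fintype ι] {v : ι → L} (hv : HasBasis c' v)
    (q : PrimeSpectrum D) (hq : x ∉ q.asIdeal) : Module.rankAtStalk (R := D) B q = Fintype.card ι := by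
  algebraize [c', (algebraMap B L).comp (algebraMap D B)]
  haveI : IsScalarTower D B L := IsScalarTower.of_algebraMap_eq fun _ => rfl
  haveI : IsScalarTower D D' L := IsScalarTower.of_algebraMap_eq fun d => (hsq d).symm
  haveI : IsLocalization (Algebra.algebraMapSubmonoid B (Submonoid.powers x)) L := by
    rw [Algebra.algebraMapSubmonoid, Submonoid.map_powers]
    exact h₂
  haveI : Algebra.IsPushout D D' B L :=
    .symm <| Algebra.isPushout_of_isLocalization (Submonoid.powers x) _ _ _
  obtain ⟨q', hq'⟩ : ∃ q' : PrimeSpectrum D', PrimeSpectrum.comap (algebraMap D D') q' = q :=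
    (PrimeSpectrum.localization_away_comap_range D' x).ge hq
  rw [← hq', ← Module.rankAtStalk_baseChange,
    Module.rankAtStalk_eq_of_equiv (Algebra.IsPushout.equiv D D' B L).toLinearEquiv]
  obtain ⟨bL, -⟩ := HasBasis.exists_basis (D := D') (R := L) hv
  haveI := Module.Free.of_basis bL
  haveI : Nontrivial D' := by
    by_contra h
    rw [not_nontrivial_iff_subsingleton] at h
    exact q'.2.ne_top (Subsingleton.elim _ _)
  rw [Module.rankAtStalk_eq_finrank_of_free, Pi.natCast_apply, Nat.cast_id, Module.finrank_eq_card_basis bL]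


/-- localisation of the Frobenius twist -/
theorem away_bcMap (B L : Type u) [CommRing B] [CommRing L] [Algebra A B] [Algebra A L] [Algebra B L]
    [IsScalarTower A B L] (g : B) [IsLocalization.Away g L] :
    letI := (bcMap A (Twist p A) B L).toAlgebra
    IsLocalization.Away (g ⊗ₜ[A] (1 : Twist p A)) (BaseChange p A L) := by
  letI := (bcMap A (Twist p A) B L).toAlgebra
  have hM : Submonoid.powers (g ⊗ₜ[A] (1 : Twist p A)) =
      Algebra.algebraMapSubmonoid (BaseChange p A B) (Submonoid.powers g) := by
    rw [Algebra.algebraMapSubmonoid, Submonoid.map_powers]; rfl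
  haveI : IsLocalization (Algebra.algebraMapSubmonoid (BaseChange p A B) (Submonoid.powers g))
      ((BaseChange p A B) ⊗[B] L) := inferInstance
  show IsLocalization _ _
  rw [hM]
  refine IsLocalization.isLocalization_of_algEquiv _
    (AlgEquiv.ofRingEquiv (f := (Algebra.TensorProduct.comm B (BaseChange p A B) L).toRingEquiv.trans
      (Algebra.TensorProduct.cancelBaseChange A B L L (Twist p A)).toRingEquiv) fun x => ?_)
  exact (RingHom.congr_fun (bcMap_eq A (Twist p A) B L) x).symm

/-- standard smooth algebras have p-bases -/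
theorem exists_hasBasis_relFrob (n : ℕ) (R : Type u) [CommRing R] [Algebra A R] [CharP R p]
    [Algebra.IsStandardSmoothOfRelativeDimension n A R] :
    ∃ y : Fin n → R, HasBasis (relFrob p A R) (monom p y) := by
  obtain ⟨g, hg⟩ := Algebra.IsStandardSmoothOfRelativeDimension.exists_etale_mvPolynomial n A R
  letI := g.toRingHom.toAlgebra
  haveI : IsScalarTower A (MvPolynomial (Fin n) A) R :=
    IsScalarTower.of_algebraMap_eq fun a => (g.commutes a).symm
  haveI : Algebra.Etale (MvPolynomial (Fin n) A) R := hg
  refine ⟨fun i => g (MvPolynomial.X i), ?_⟩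
  refine HasBasis.congr_family (hasBasis_relFrob_of_etale p A (MvPolynomial (Fin n) A) R
    (hasBasis_relFrob_mvPolynomial p A n)) fun r => ?_
  rw [Function.comp_apply, map_monom]
  rfl

theorem exists_relativeDimension (R : Type u) [CommRing R] [Algebra A R] [Algebra.IsStandardSmooth A R] :
    ∃ n, Algebra.IsStandardSmoothOfRelativeDimension n A R := by
  obtain ⟨_, _, _, _, ⟨S⟩⟩ := Algebra.IsStandardSmooth.out (R := A) (S := R)
  exact ⟨S.dimension, ⟨_, _, _, inferInstance, S, rfl⟩⟩

variable (B : Type u) [CommRing B] [Algebra A B] [CharP B p] [Algebra.Smooth A B]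

theorem finite_relFrob :
    letI := (relFrob p A B).toAlgebra
    Module.Finite (BaseChange p A B) B ∧ Module.Projective (BaseChange p A B) B := by
  let d : A →+* BaseChange p A B :=
    (Algebra.TensorProduct.includeRight : Twist p A →ₐ[A] BaseChange p A B).toRingHom.comp (toTwist p A).toRingHom
  have hdft : d.FiniteType := by
    refine RingHom.FiniteType.comp ?_ (RingHom.FiniteType.of_surjective _ (toTwist p A).surjective)
    have e : (Algebra.TensorProduct.includeRight : Twist p A →ₐ[A] BaseChange p A B).toRingHom =
        ((Algebra.TensorProduct.comm A (Twist p A) B).toRingEquiv.toRingHom).comp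
          (algebraMap (Twist p A) (Twist p A ⊗[A] B)) := by ext x; simp
    rw [e]
    exact RingHom.FiniteType.comp
      (RingHom.FiniteType.of_surjective _ (Algebra.TensorProduct.comm A (Twist p A) B).surjective)
      (RingHom.finiteType_algebraMap.2 inferInstance)
  exact finite_projective_of_flat p (relFrob p A B) d (RingHom.ext fun a => by simp [d, relFrob_tmul]) hdft
    (flat_relFrob p A B) fun b => ⟨b ⊗ₜ 1, by simp [relFrob_tmul]⟩

theorem rankAtStalk_relFrob (r : ℕ)
    (hr : ∀ q : PrimeSpectrum B, Module.rankAtStalk (R := B) (KaehlerDifferential A B) q = r) :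
    letI := (relFrob p A B).toAlgebra
    ∀ q : PrimeSpectrum (BaseChange p A B), Module.rankAtStalk (R := BaseChange p A B) B q = p ^ r := by
  letI := (relFrob p A B).toAlgebra
  intro q
  let ι : B →+* BaseChange p A B := Algebra.TensorProduct.includeLeftRingHom
  let q₀ : Ideal B := q.asIdeal.comap ι
  obtain ⟨s, hs, hsm⟩ := Algebra.Smooth.exists_span_eq_top_isStandardSmooth (R := A) (S := B)
  obtain ⟨g, hgs, hgq⟩ : ∃ g ∈ s, g ∉ q₀ := by
    by_contra! hle
    exact (inferInstance : q₀.IsPrime).ne_top (top_le_iff.1 (hs ▸ Ideal.span_le.2 hle))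
  let L := Localization.Away g
  haveI : Algebra.IsStandardSmooth A L := hsm g hgs
  obtain ⟨n, hn⟩ := exists_relativeDimension A L
  haveI : Nontrivial L := by
    refine ⟨⟨1, 0, fun h => hgq ?_⟩⟩
    obtain ⟨⟨_, k, rfl⟩, hk⟩ := (IsLocalization.map_eq_zero_iff (Submonoid.powers g) L (1 : B)).1
      (by rw [map_one]; exact h)
    refine (inferInstance : q₀.IsPrime).mem_of_pow_mem k ?_
    rw [← mul_one (g ^ k)]
    exact hk ▸ zero_mem _
  haveI : CharP L p := by
    refine (CharP.charP_iff_prime_eq_zero hp.out).2 ?_
    rw [← map_natCast (algebraMap B L), CharP.cast_eq_zero, map_zero]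
  have hrn : r = n := by
    obtain ⟨m, hm⟩ := Ideal.exists_maximal L
    haveI := hm.isPrime
    have h1 := hr (PrimeSpectrum.comap (algebraMap B L) ⟨m, inferInstance⟩)
    haveI : Algebra.FormallyEtale B L := .of_isLocalization (Submonoid.powers g)
    rw [← Module.rankAtStalk_baseChange,
      Module.rankAtStalk_eq_of_equiv (KaehlerDifferential.tensorKaehlerEquivOfFormallyEtale A B L),
      Module.rankAtStalk_eq_finrank_of_free] at h1
    have h2 := Algebra.IsStandardSmoothOfRelativeDimension.rank_kaehlerDifferential (R := A) (S := L) n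
    simp only [Pi.natCast_apply, Nat.cast_id, Module.finrank, h2, Cardinal.toNat_natCast] at h1
    exact h1.symm
  subst n
  obtain ⟨y, hy⟩ := exists_hasBasis_relFrob p A r L
  have hfin := finite_relFrob p A B
  haveI := hfin.1
  haveI : Module.Flat (BaseChange p A B) B := flat_relFrob p A B
  letI : Algebra (BaseChange p A B) (BaseChange p A L) := (bcMap A (Twist p A) B L).toAlgebra
  have h := rankAtStalk_of_away (D := BaseChange p A B) (D' := BaseChange p A L) (B := B) (L := L)
    (ι g) (relFrob p A L) (away_bcMap p A B L g) ?_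
    (fun x => RingHom.congr_fun (relFrob_comp_bcMap p A B L) x) hy q hgq
  · rw [h]
    simp
  · have : algebraMap (BaseChange p A B) B (ι g) = g ^ p := by
      simp [RingHom.algebraMap_toAlgebra, ι, relFrob_tmul]
    rw [this]
    haveI : IsLocalization (Submonoid.powers g) (Localization.Away (g ^ p)) :=
      IsLocalization.of_le_of_exists_dvd (Submonoid.powers (g ^ p)) (Submonoid.powers g)
        (Submonoid.powers_le.2 ⟨p, rfl⟩) (by
          rintro _ ⟨k, rfl⟩
          exact ⟨(g ^ p) ^ k, ⟨k, rfl⟩, (pow_mul g p k) ▸ pow_dvd_pow g (Nat.le_mul_of_pos_left k hp.out.pos)⟩)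
    exact IsLocalization.isLocalization_of_algEquiv _
      (IsLocalization.algEquiv (Submonoid.powers g) (Localization.Away (g ^ p)) L)

end Groth.L15.Frob
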