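import Groth.Agent.L09.PerfBasic
import Mathlib.AlgebraicGeometry.Morphisms.Integral
import Mathlib.AlgebraicGeometry.Morphisms.Finite
import Mathlib.AlgebraicGeometry.Morphisms.UniversallyInjective

/-! Absolute and relative Frobenius are integral universal homeomorphisms. -/

set_option autoImplicit false
set_option linter.style.haveILetI false

universe u

open CategoryTheory Limits AlgebraicGeometry

namespace Groth.L15.Frob

variable (p : ℕ) [hp : Fact p.Prime]

theorem isIntegralHom_frob (X : Scheme.{u}) [FrobSch.IsCharP X p] : IsIntegralHom (FrobSch.frob X p) :=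
  { isAffine_preimage := fun U hU => by rwa [FrobSch.frob_preimage]
    isIntegral_app := fun U _ s => by
      let s' : Γ(X, U) := s
      refine ⟨Polynomial.X ^ p - Polynomial.C s', Polynomial.monic_X_pow_sub_C s' hp.out.ne_zero, ?_⟩
      rw [Polynomial.eval₂_sub, Polynomial.eval₂_X_pow, Polynomial.eval₂_C]
      exact sub_eq_zero.2 (FrobSch.frob_app X p U s).symm }

theorem surjective_frob (X : Scheme.{u}) [FrobSch.IsCharP X p] : Surjective (FrobSch.frob X p) :=
  ⟨fun x => ⟨x, FrobSch.frob_apply X p x⟩⟩

theorem isUnivHomeo_frob (X : Scheme.{u}) [FrobSch.IsCharP X p] : FlatMor.IsUnivHomeo (FrobSch.frob X p) := by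
  haveI := isIntegralHom_frob p X
  exact (Groth.L20.isUnivHomeo_iff _).2 ⟨inferInstance, Groth.L09.Perf.universallyInjective_frob p, surjective_frob p X⟩

theorem isPurelyInseparable_residueFieldMap {X Y : Scheme.{u}} {f : X ⟶ Y} (h : FlatMor.IsUnivHomeo f) (x : X) :
    (f.residueFieldMap x).hom.IsPurelyInseparable :=
  have h' : Function.Injective f ∧ ∀ x, (f.residueFieldMap x).hom.IsPurelyInseparable :=
    ((tfae_universallyInjective f).out 0 2).1 ((Groth.L20.isUnivHomeo_iff f).1 h).2.1
  h'.2 x

variable {X S : Scheme.{u}} [FrobSch.IsCharP S p] (f : X ⟶ S)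

theorem isUnivHomeo_relFrob : FlatMor.IsUnivHomeo (FrobSch.relFrob f p) := by
  haveI := FrobSch.IsCharP.of_hom f p
  refine Groth.L20.isUnivHomeo_of_comp_right (h := pullback.fst f (FrobSch.frob S p)) ?_ ?_
  · rw [FrobSch.relFrob_fst]
    exact isUnivHomeo_frob p X
  · haveI : MorphismProperty.IsStableUnderBaseChange FlatMor.IsUnivHomeo.{u} :=
      MorphismProperty.universally_isStableUnderBaseChange _
    exact MorphismProperty.of_isPullback (P := FlatMor.IsUnivHomeo)
      (IsPullback.of_hasPullback f (FrobSch.frob S p)).flip (isUnivHomeo_frob p S)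

theorem isFinite_relFrob [LocallyOfFiniteType f] : IsFinite (FrobSch.relFrob f p) := by
  haveI := Groth.L20.isIntegralHom_of_isUnivHomeo (isUnivHomeo_relFrob p f)
  haveI : LocallyOfFiniteType (FrobSch.relFrob f p ≫ pullback.snd f (FrobSch.frob S p)) := by
    rw [FrobSch.relFrob_snd]; infer_instance
  haveI : LocallyOfFiniteType (FrobSch.relFrob f p) :=
    locallyOfFiniteType_of_comp _ (pullback.snd f (FrobSch.frob S p))
  exact (IsFinite.iff_isIntegralHom_and_locallyOfFiniteType _).2 ⟨‹_›, ‹_›⟩

end Groth.L15.Frob
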