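import Groth.Agent.L15.Frob.SyntRing
import Groth.Agent.L15.Frob.Sch
import Groth.Agent.L07.SyntScheme

/-! The relative Frobenius of a smooth morphism is syntomic. -/

set_option autoImplicit false
set_option linter.style.haveILetI false

universe u

open TensorProduct FrobAlg CategoryTheory Limits AlgebraicGeometry

noncomputable section

namespace Groth.L15.Frob

variable (p : ℕ) [hp : Fact p.Prime]

theorem frob_Spec (A : Type u) [CommRing A] [CharP A p] [FrobSch.IsCharP (Spec (CommRingCat.of A)) p] :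
    FrobSch.frob (Spec (CommRingCat.of A)) p = Spec.map (CommRingCat.ofHom (frobenius A p)) := by
  refine ext_of_isAffine (CommRingCat.hom_ext (RingHom.ext fun s => ?_))
  obtain ⟨a, rfl⟩ := (Scheme.ΓSpecIso (CommRingCat.of A)).commRingCatIsoToRingEquiv.symm.surjective s
  refine Eq.trans ?_ congr($(Scheme.ΓSpecIso_inv_naturality (CommRingCat.ofHom (frobenius A p))) a)
  exact (map_pow (Scheme.ΓSpecIso (CommRingCat.of A)).inv.hom a p).symm

theorem charP_sections (X : Scheme.{u}) [FrobSch.IsCharP X p] {U : X.Opens} {x : X} (hx : x ∈ U) :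
    CharP Γ(X, U) p := by
  haveI : Nonempty U := ⟨⟨x, hx⟩⟩
  exact (CharP.charP_iff_prime_eq_zero hp.out).2 (FrobSch.natCast_eq_zero_app X p U)

theorem isSyntomicAt_relFrob {X S : Scheme.{u}} [FrobSch.IsCharP S p] (f : X ⟶ S) (d : ℕ)
    [SmoothOfRelativeDimension d f] (x : X) : Synt.IsSyntomicAt (FrobSch.relFrob f p) x := by
  classical
  haveI := FrobSch.IsCharP.of_hom f p
  obtain ⟨V, hV, U, hU, hxU, hUV, hss⟩ :=
    SmoothOfRelativeDimension.exists_isStandardSmoothOfRelativeDimension (n := d) (f := f) x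
  let A : Type u := Γ(S, V)
  let B : Type u := Γ(X, U)
  haveI : CharP A p := charP_sections p S (hUV hxU)
  haveI : CharP B p := charP_sections p X hxU
  letI : Algebra A B := (f.appLE V U hUV).hom.toAlgebra
  haveI : Algebra.IsStandardSmoothOfRelativeDimension d A B := hss
  obtain ⟨y, hy⟩ := exists_hasBasis_relFrob p A d B
  let D := BaseChange p A B
  letI : Algebra D B := (relFrob p A B).toAlgebra
  obtain ⟨F, hF, ⟨e⟩⟩ := exists_relGCI_of_hasBasis p hp.out.ne_zero (R := D) (S := B)
    (fun i => y i ⊗ₜ[A] (1 : Twist p A)) y (fun i => by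
      rw [RingHom.algebraMap_toAlgebra]
      refine Eq.trans ?_ (relFrob_tmul p A B (y i) 1).symm
      rw [map_one, map_one, mul_one]) hy
  let T : Type u := Twist p A
  let ιT : T →+* A := ((toTwist p A).symm : Twist p A ≃+* A)
  let kT : Spec (CommRingCat.of T) ⟶ S :=
    Spec.map (CommRingCat.ofHom ((toTwist p A) : A →+* Twist p A)) ≫ hV.fromSpec
  let φB : Spec (CommRingCat.of B) ⟶ Spec (CommRingCat.of A) := Spec.map (CommRingCat.ofHom (algebraMap A B))
  let φT : Spec (CommRingCat.of T) ⟶ Spec (CommRingCat.of A) := Spec.map (CommRingCat.ofHom (algebraMap A T))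
  haveI : IsOpenImmersion hV.fromSpec := hV.isOpenImmersion_fromSpec
  haveI : IsOpenImmersion hU.fromSpec := hU.isOpenImmersion_fromSpec
  haveI : IsIso (CommRingCat.ofHom ((toTwist p A) : A →+* Twist p A)) :=
    (toTwist p A).toCommRingCatIso.isIso_hom
  haveI : IsOpenImmersion kT := inferInstance
  have eB : φB ≫ hV.fromSpec = hU.fromSpec ≫ f := hV.SpecMap_appLE_fromSpec f hU hUV
  haveI : FrobSch.IsCharP (Spec (CommRingCat.of A)) p := FrobSch.isCharP_Spec A p
  have eA : Spec.map (CommRingCat.ofHom (frobenius A p)) ≫ hV.fromSpec = hV.fromSpec ≫ FrobSch.frob S p := by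
    rw [← frob_Spec]
    exact FrobSch.frob_comp p hV.fromSpec
  have eT : φT ≫ hV.fromSpec = kT ≫ FrobSch.frob S p := by
    rw [Category.assoc, ← eA, ← Category.assoc, ← Spec.map_comp]
    rfl
  let j : Spec (CommRingCat.of D) ⟶ FrobSch.frobTwist f p :=
    (pullbackSpecIso A B T).inv ≫
      pullback.map φB φT f (FrobSch.frob S p) hU.fromSpec kT hV.fromSpec eB eT
  haveI : IsOpenImmersion j := inferInstance
  have hsq : Spec.map (CommRingCat.ofHom (algebraMap D B)) ≫ j = hU.fromSpec ≫ FrobSch.relFrob f p := by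
    apply pullback.hom_ext
    · rw [Category.assoc, Category.assoc, pullback.lift_fst, pullbackSpecIso_inv_fst_assoc, ← Spec.map_comp_assoc,
        Category.assoc, FrobSch.relFrob_fst, ← FrobSch.frob_comp]
      haveI : FrobSch.IsCharP (Spec (CommRingCat.of B)) p := FrobSch.isCharP_Spec B p
      refine congrArg (· ≫ hU.fromSpec) (Eq.trans ?_ (frob_Spec p B).symm)
      refine congrArg Spec.map (CommRingCat.hom_ext (RingHom.ext fun b => ?_))
      refine (relFrob_tmul p A B b 1).trans ?_
      rw [map_one, map_one, mul_one]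
      exact (frobenius_def ..).symm
    · rw [Category.assoc, Category.assoc, pullback.lift_snd, pullbackSpecIso_inv_snd_assoc, ← Spec.map_comp_assoc,
        Category.assoc, FrobSch.relFrob_snd, ← eB]
      simp only [kT, ← Spec.map_comp_assoc]
      refine congrArg (· ≫ hV.fromSpec) (congrArg Spec.map (CommRingCat.hom_ext (RingHom.ext fun a => ?_)))
      refine (relFrob_tmul p A B 1 (toTwist p A a)).trans ?_
      rw [one_pow, one_mul, RingEquiv.symm_apply_apply]
      rfl
  let W : (FrobSch.frobTwist f p).Opens := j.opensRange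
  have hW : IsAffineOpen W := isAffineOpen_opensRange j
  have hUW : U ≤ FrobSch.relFrob f p ⁻¹ᵁ W := fun z hz => by
    obtain ⟨w, hw⟩ : z ∈ Set.range hU.fromSpec := hU.range_fromSpec.ge hz
    refine ⟨(Spec.map (CommRingCat.ofHom (algebraMap D B))) w, ?_⟩
    rw [← Scheme.Hom.comp_apply, hsq, Scheme.Hom.comp_apply, hw]
  refine Groth.L07.SyntScheme.isSyntomicAt_of_standard _ x ⟨W, hW⟩ ⟨U, hU⟩ hUW hxU
    ⟨D, inferInstance, d, d, F, hF, hU.isoSpec ≪≫ Scheme.Spec.mapIso e.toRingEquiv.toCommRingCatIso.op,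
      j.isoOpensRange.symm, ?_⟩
  rw [← cancel_mono j, Category.assoc, Category.assoc]
  have hι : j.isoOpensRange.symm.hom ≫ j = W.ι := Scheme.Hom.isoOpensRange_inv_comp j
  rw [hι, Scheme.Hom.resLE_comp_ι, Iso.trans_hom, Category.assoc]
  rw [show (Scheme.Spec.mapIso e.toRingEquiv.toCommRingCatIso.op).hom =
    Spec.map e.toRingEquiv.toCommRingCatIso.hom from rfl, ← Spec.map_comp_assoc]
  have he : CommRingCat.ofHom (algebraMap D (Synt.RelGCIRing D d d F)) ≫ e.toRingEquiv.toCommRingCatIso.hom =
      CommRingCat.ofHom (algebraMap D B) := CommRingCat.hom_ext (RingHom.ext fun r => e.commutes r)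
  rw [he, hsq, ← Category.assoc, hU.isoSpec_hom_fromSpec]

end Groth.L15.Frob
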