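import Groth.Agent.L15.Frob.GeomRed
import Groth.Agent.L15.Frob.SyntSch
import Groth.Agent.L20.GenSmooth.Ring
import Groth.Agent.L22.Cyc.FiniteDeg
import Groth.Agent.L22.SchemeDim
import Groth.Agent.L02.CAlg.Bertini.Chart
import Mathlib.AlgebraicGeometry.Geometrically.Reduced
import Mathlib.RingTheory.Algebraic.Integral

/-! The relative Frobenius of a geometrically reduced variety has degree `p ^ dim`. -/

set_option autoImplicit false
set_option linter.style.haveILetI false

universe u

open TensorProduct FrobAlg CategoryTheory Limits AlgebraicGeometry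

noncomputable section

namespace Groth.L15.Frob

/-- Degree of a finite free map of domains at the generic point. -/
theorem residueDegree_Spec {D B : Type u} [CommRing D] [CommRing B] [IsDomain D] [IsDomain B] [Algebra D B]
    [Module.Finite D B] [FaithfulSMul D B] (b : Spec (CommRingCat.of B)) (hb : b.asIdeal = ⊥) :
    (Spec.map (CommRingCat.ofHom (algebraMap D B))).residueDegree b = Module.finrank D B := by
  set ψ := Spec.map (CommRingCat.ofHom (algebraMap D B))
  let d := ψ b
  have hd : d.asIdeal = ⊥ := by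
    change (b.asIdeal.comap (algebraMap D B)) = ⊥
    rw [hb, ← RingHom.ker_eq_comap_bot, RingHom.ker_eq_bot_iff_eq_zero]
    exact (injective_iff_map_eq_zero _).1 (FaithfulSMul.algebraMap_injective D B)
  let evD : D →+* (Spec (CommRingCat.of D)).residueField d :=
    ((Scheme.ΓSpecIso (CommRingCat.of D)).inv ≫ (Spec (CommRingCat.of D)).Γevaluation d).hom
  let evB : B →+* (Spec (CommRingCat.of B)).residueField b :=
    ((Scheme.ΓSpecIso (CommRingCat.of B)).inv ≫ (Spec (CommRingCat.of B)).Γevaluation b).hom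
  letI := evD.toAlgebra
  letI := evB.toAlgebra
  have hfr : ∀ (R : Type u) [CommRing R] [IsDomain R] (x : Spec (CommRingCat.of R)) (_ : x.asIdeal = ⊥),
      letI := ((Scheme.ΓSpecIso (CommRingCat.of R)).inv ≫ (Spec (CommRingCat.of R)).Γevaluation x).hom.toAlgebra
      IsFractionRing R ((Spec (CommRingCat.of R)).residueField x) := by
    intro R _ _ x hx
    letI := ((Scheme.ΓSpecIso (CommRingCat.of R)).inv ≫ (Spec (CommRingCat.of R)).Γevaluation x).hom.toAlgebra
    haveI : IsFractionRing (R ⧸ x.asIdeal) x.asIdeal.ResidueField := inferInstance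
    let q : R ≃+* R ⧸ x.asIdeal :=
      ((RingEquiv.quotientBot R).symm.trans (Ideal.quotEquivOfEq hx.symm))
    haveI : IsFractionRing R x.asIdeal.ResidueField := by
      have h := IsLocalization.isLocalization_of_base_ringEquiv (nonZeroDivisors (R ⧸ x.asIdeal)) x.asIdeal.ResidueField q.symm
      rw [MulEquivClass.map_nonZeroDivisors] at h
      convert h
      exact Algebra.algebra_ext _ _ fun r => rfl
    let e := (Scheme.Spec.residueFieldIso (CommRingCat.of R) x).commRingCatIsoToRingEquiv
    refine IsLocalization.isLocalization_of_algEquiv (nonZeroDivisors R)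
      (AlgEquiv.ofRingEquiv (f := e.symm) fun r => ?_)
    exact congr($(Scheme.Spec.algebraMap_residueFieldIso_inv (CommRingCat.of R) x) r)
  haveI := hfr D d hd
  haveI := hfr B b hb
  letI : Algebra ((Spec (CommRingCat.of D)).residueField d) ((Spec (CommRingCat.of B)).residueField b) :=
    (ψ.residueFieldMap b).hom.toAlgebra
  letI : Algebra D ((Spec (CommRingCat.of B)).residueField b) := (evB.comp (algebraMap D B)).toAlgebra
  haveI : IsScalarTower D B ((Spec (CommRingCat.of B)).residueField b) := IsScalarTower.of_algebraMap_eq fun _ => rfl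
  haveI : IsScalarTower D ((Spec (CommRingCat.of D)).residueField d) ((Spec (CommRingCat.of B)).residueField b) :=
    IsScalarTower.of_algebraMap_eq fun a => by
      change evB (algebraMap D B a) = ψ.residueFieldMap b (evD a)
      refine Eq.trans ?_ (Scheme.Γevaluation_naturality_apply ψ b ((Scheme.ΓSpecIso (CommRingCat.of D)).inv a)).symm
      refine congrArg ((Spec (CommRingCat.of B)).Γevaluation b) ?_
      exact congr($(Scheme.ΓSpecIso_inv_naturality (CommRingCat.ofHom (algebraMap D B))) a)
  haveI : Algebra.IsAlgebraic D B := Algebra.IsIntegral.isAlgebraic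
  exact congrArg Cardinal.toNat (Algebra.IsAlgebraic.rank_of_isFractionRing D
    ((Spec (CommRingCat.of D)).residueField d) B ((Spec (CommRingCat.of B)).residueField b))

variable (k : Type u) [Field k] (p : ℕ) [hp : Fact p.Prime] [CharP k p] (X : Scheme.{u})
  [X.Over (Spec (CommRingCat.of k))]

local notation "fX" => (X ↘ Spec (CommRingCat.of k))

theorem isIntegral_frobTwist [IsIntegral X] [GeometricallyReduced fX] :
    IsIntegral (FrobSch.frobTwist fX p) := by
  haveI : IsReduced (FrobSch.frobTwist fX p) :=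
    pullback_of_geometrically GeometricallyReduced.geometrically_isReduced k _
  have h : FlatMor.IsUnivHomeo (pullback.fst fX (FrobSch.frob (Spec (CommRingCat.of k)) p)) := by
    haveI : MorphismProperty.IsStableUnderBaseChange FlatMor.IsUnivHomeo.{u} :=
      MorphismProperty.universally_isStableUnderBaseChange _
    exact MorphismProperty.of_isPullback (P := FlatMor.IsUnivHomeo)
      (IsPullback.of_hasPullback fX (FrobSch.frob (Spec (CommRingCat.of k)) p)).flip (isUnivHomeo_frob p _)
  let e := (Groth.L20.isHomeomorph_of_isUnivHomeo h).homeomorph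
  haveI : IrreducibleSpace (FrobSch.frobTwist fX p) := e.symm.surjective.irreducibleSpace e.symm.continuous
  exact isIntegral_of_irreducibleSpace_of_isReduced _

theorem residueDegree_relFrob [IsIntegral X] [LocallyOfFiniteType fX] [GeometricallyReduced fX] (d : ℕ)
    (hd : topologicalKrullDim X = d) : (FrobSch.relFrob fX p).residueDegree (genericPoint X) = p ^ d := by
  classical
  haveI := FrobSch.IsCharP.of_hom fX p
  haveI := isIntegral_frobTwist k p X
  let η := genericPoint X
  obtain ⟨U₀, hU₀, hηU₀, -⟩ := exists_isAffineOpen_mem_and_subset (x := η) (U := ⊤) trivial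
  haveI : Nonempty U₀ := ⟨⟨η, hηU₀⟩⟩
  haveI : IsOpenImmersion hU₀.fromSpec := hU₀.isOpenImmersion_fromSpec
  obtain ⟨φ₀, hφ₀⟩ := Spec.map_surjective (hU₀.fromSpec ≫ fX)
  -- the chart
  have chart : ∀ (U : X.Opens) (hU : IsAffineOpen U) [Nonempty U] (φ : CommRingCat.of k ⟶ Γ(X, U)),
      Spec.map φ = hU.fromSpec ≫ fX → letI := φ.hom.toAlgebra;
      ∀ [CharP Γ(X, U) p], ∃ j : Spec (CommRingCat.of (BaseChange p k Γ(X, U))) ⟶ FrobSch.frobTwist fX p,
        IsOpenImmersion j ∧
          Spec.map (CommRingCat.ofHom (relFrob p k Γ(X, U))) ≫ j = hU.fromSpec ≫ FrobSch.relFrob fX p := by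
    intro U hU _ φ hφ
    letI := φ.hom.toAlgebra
    intro _
    haveI : IsOpenImmersion hU.fromSpec := hU.isOpenImmersion_fromSpec
    let kT : Spec (CommRingCat.of (Twist p k)) ⟶ Spec (CommRingCat.of k) :=
      Spec.map (CommRingCat.ofHom ((toTwist p k) : k →+* Twist p k))
    haveI : IsIso (CommRingCat.ofHom ((toTwist p k) : k →+* Twist p k)) :=
      (toTwist p k).toCommRingCatIso.isIso_hom
    haveI : IsOpenImmersion kT := inferInstance
    have eB : Spec.map (CommRingCat.ofHom (algebraMap k Γ(X, U))) ≫ 𝟙 _ = hU.fromSpec ≫ fX := by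
      rw [Category.comp_id]; exact hφ
    have eT : Spec.map (CommRingCat.ofHom (algebraMap k (Twist p k))) ≫ 𝟙 _ =
        kT ≫ FrobSch.frob (Spec (CommRingCat.of k)) p := by
      rw [Category.comp_id, frob_Spec, ← Spec.map_comp]
      rfl
    let j : Spec (CommRingCat.of (BaseChange p k Γ(X, U))) ⟶ FrobSch.frobTwist fX p :=
      (pullbackSpecIso k Γ(X, U) (Twist p k)).inv ≫
        pullback.map _ _ fX (FrobSch.frob (Spec (CommRingCat.of k)) p) hU.fromSpec kT (𝟙 _) eB eT
    refine ⟨j, inferInstance, ?_⟩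
    apply pullback.hom_ext
    · rw [Category.assoc, Category.assoc, pullback.lift_fst, pullbackSpecIso_inv_fst_assoc, ← Spec.map_comp_assoc,
        Category.assoc, FrobSch.relFrob_fst, ← FrobSch.frob_comp]
      haveI : FrobSch.IsCharP (Spec Γ(X, U)) p := FrobSch.isCharP_Spec _ p
      refine congrArg (· ≫ hU.fromSpec) (Eq.trans ?_ (frob_Spec p Γ(X, U)).symm)
      refine congrArg Spec.map (CommRingCat.hom_ext (RingHom.ext fun b => ?_))
      refine (relFrob_tmul p k Γ(X, U) b 1).trans ?_
      rw [map_one, map_one, mul_one]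
      exact (frobenius_def ..).symm
    · rw [Category.assoc, Category.assoc, pullback.lift_snd, pullbackSpecIso_inv_snd_assoc, ← Spec.map_comp_assoc,
        Category.assoc, FrobSch.relFrob_snd, ← hφ]
      simp only [kT, ← Spec.map_comp]
      refine congrArg Spec.map (CommRingCat.hom_ext (RingHom.ext fun a => ?_))
      refine (relFrob_tmul p k Γ(X, U) 1 (toTwist p k a)).trans ?_
      rw [one_pow, one_mul, RingEquiv.symm_apply_apply]
      rfl
  -- a standard smooth neighbourhood of the generic point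
  letI : Algebra k Γ(X, U₀) := φ₀.hom.toAlgebra
  haveI : CharP Γ(X, U₀) p := charP_sections p X hηU₀
  obtain ⟨j₀, hj₀, -⟩ := chart U₀ hU₀ φ₀ hφ₀
  haveI : IsReduced (Spec (CommRingCat.of (BaseChange p k Γ(X, U₀)))) :=
    isReduced_of_isOpenImmersion j₀
  haveI : _root_.IsReduced (BaseChange p k Γ(X, U₀)) := (affine_isReduced_iff (CommRingCat.of (BaseChange p k Γ(X, U₀)))).1 inferInstance
  haveI := isGeometricallyReduced_of_frobenius p k Γ(X, U₀)
  haveI : Algebra.FiniteType k Γ(X, U₀) := by
    have h : φ₀.hom.FiniteType := by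
      rw [← HasRingHomProperty.Spec_iff (P := @LocallyOfFiniteType), hφ₀]
      infer_instance
    exact h
  haveI : Algebra.FinitePresentation k Γ(X, U₀) := Algebra.FinitePresentation.of_finiteType.1 inferInstance
  haveI : Algebra.IsSmoothAt k (⊥ : Ideal Γ(X, U₀)) :=
    Groth.L20.GenSmooth.isSmoothAt_of_mem_minimalPrimes ⟨⊥, Ideal.bot_prime⟩ (by
      show (⊥ : Ideal Γ(X, U₀)) ∈ minimalPrimes _
      rw [IsDomain.minimalPrimes_eq_singleton_bot]; rfl)
  obtain ⟨g, hg, hgs⟩ := Algebra.IsSmoothAt.exists_notMem_isStandardSmooth k (⊥ : Ideal Γ(X, U₀))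
  let U := X.basicOpen g
  have hU : IsAffineOpen U := hU₀.basicOpen g
  have hηU : η ∈ U := by
    refine ((genericPoint_spec X).mem_open_set_iff U.2).2 ?_
    rw [Set.univ_inter]
    obtain ⟨z, hz⟩ : (U : Set X).Nonempty := by
      rw [Set.nonempty_iff_ne_empty]
      intro h
      refine hg ?_
      rw [Ideal.mem_bot, ← basicOpen_eq_bot_iff]
      exact SetLike.coe_injective h
    exact ⟨z, hz⟩
  haveI : Nonempty U := ⟨⟨η, hηU⟩⟩
  let res := X.presheaf.map (homOfLE (X.basicOpen_le g)).op
  let φ : CommRingCat.of k ⟶ Γ(X, U) := φ₀ ≫ res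
  have hφ : Spec.map φ = hU.fromSpec ≫ fX := by
    rw [Spec.map_comp, hφ₀, ← Category.assoc, hU₀.map_fromSpec hU]
  letI : Algebra Γ(X, U₀) Γ(X, U) := res.hom.toAlgebra
  letI : Algebra k Γ(X, U) := φ.hom.toAlgebra
  haveI : IsScalarTower k Γ(X, U₀) Γ(X, U) := IsScalarTower.of_algebraMap_eq fun _ => rfl
  haveI : IsLocalization.Away g Γ(X, U) := hU₀.isLocalization_basicOpen g
  haveI : Algebra.IsStandardSmooth k Γ(X, U) := by
    haveI := hgs
    exact Algebra.IsStandardSmooth.of_algEquiv
      ((IsLocalization.algEquiv (Submonoid.powers g) (Localization.Away g) Γ(X, U)).restrictScalars k)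
  haveI : CharP Γ(X, U) p := charP_sections p X hηU
  obtain ⟨j, hj, hsq⟩ := chart U hU φ hφ
  -- dimension
  obtain ⟨n, hn⟩ := exists_relativeDimension k Γ(X, U)
  haveI : Algebra.FiniteType k Γ(X, U) := inferInstance
  have hrank : Module.finrank Γ(X, U) (KaehlerDifferential k Γ(X, U)) = n := by
    rw [Module.finrank, Algebra.IsStandardSmoothOfRelativeDimension.rank_kaehlerDifferential n,
      Cardinal.toNat_natCast]
  let bΩ := (Module.finBasis Γ(X, U) (KaehlerDifferential k Γ(X, U))).reindex (finCongr hrank)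
  have hdimU : ringKrullDim Γ(X, U) = (n : WithBot ℕ∞) := by
    haveI : IsLocalization.Away (1 : Γ(X, U)) Γ(X, U) :=
      IsLocalization.away_of_isUnit_of_bijective _ isUnit_one Function.bijective_id
    have h := L02.CAlg.BertiniV.card_eq_of_minimal (k := k) (A := Γ(X, U)) Γ(X, U) bΩ 1 ⊥
      (by rw [IsDomain.minimalPrimes_eq_singleton_bot]; rfl) (by simp)
    rwa [(RingEquiv.quotientBot Γ(X, U)).ringKrullDim] at h
  have hnd : n = d := by
    obtain ⟨m, hm, -, hopen⟩ := Groth.L22.SchemeDim.exists_dim_eq_trdeg (k := k) (X := X)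
    have h1 := hopen U ⟨η, hηU⟩
    rw [show topologicalKrullDim U = topologicalKrullDim (U : Set X) from rfl,
      Groth.L22.SchemeDim.topologicalKrullDim_affineOpen hU, hdimU] at h1
    have h2 : (n : WithBot ℕ∞) = (d : WithBot ℕ∞) := by rw [h1, ← hm, hd]
    exact_mod_cast h2
  haveI : Algebra.IsStandardSmoothOfRelativeDimension d k Γ(X, U) := hnd ▸ hn
  -- degree
  obtain ⟨y, hy⟩ := exists_hasBasis_relFrob p k d Γ(X, U)
  haveI : IsIntegral (Spec (CommRingCat.of (BaseChange p k Γ(X, U)))) := by
    haveI : Nonempty (Spec (CommRingCat.of (BaseChange p k Γ(X, U)))) :=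
      ⟨(Spec.map (CommRingCat.ofHom (relFrob p k Γ(X, U)))) (hU.primeIdealOf ⟨η, hηU⟩)⟩
    exact isIntegral_of_isOpenImmersion j
  haveI : IsDomain (BaseChange p k Γ(X, U)) :=
    (affine_isIntegral_iff (CommRingCat.of (BaseChange p k Γ(X, U)))).1 inferInstance
  letI : Algebra (BaseChange p k Γ(X, U)) Γ(X, U) := (relFrob p k Γ(X, U)).toAlgebra
  obtain ⟨bB, -⟩ := HasBasis.exists_basis (D := BaseChange p k Γ(X, U)) (R := Γ(X, U)) hy
  haveI := Module.Free.of_basis bB
  haveI := Module.Finite.of_basis bB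
  haveI : FaithfulSMul (BaseChange p k Γ(X, U)) Γ(X, U) := inferInstance
  let b₀ := hU.primeIdealOf ⟨η, hηU⟩
  have hb₀ : b₀.asIdeal = ⊥ := by
    rw [show b₀ = genericPoint (Spec Γ(X, U)) from hU.primeIdealOf_genericPoint, genericPoint_eq_bot_of_affine]
    rfl
  have key := residueDegree_Spec (D := BaseChange p k Γ(X, U)) (B := Γ(X, U)) b₀ hb₀
  haveI : IsOpenImmersion hU.fromSpec := hU.isOpenImmersion_fromSpec
  have hc := Groth.L22.Cyc.residueDegree_congr _ hsq b₀
  rw [Groth.L22.Cyc.residueDegree_comp, Groth.L22.Cyc.residueDegree_comp,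
    Groth.L22.Cyc.residueDegree_eq_one hU.fromSpec b₀
      (ConcreteCategory.bijective_of_isIso (hU.fromSpec.residueFieldMap b₀)), mul_one,
    Groth.L22.Cyc.residueDegree_eq_one j _
      (ConcreteCategory.bijective_of_isIso (j.residueFieldMap _)), one_mul] at hc
  rw [show (hU.fromSpec b₀ : X) = η from hU.fromSpec_primeIdealOf ⟨η, hηU⟩] at hc
  rw [← hc]
  refine key.trans ?_
  rw [Module.finrank_eq_card_basis bB]
  simp

end Groth.L15.Frob
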