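import Groth.Agent.L15.Frob.RelFlat
import Mathlib.RingTheory.Unramified.Basic
import Mathlib.RingTheory.Ideal.IdempotentFG
import Mathlib.RingTheory.Ideal.GoingDown
import Mathlib.Algebra.Algebra.Epi
import Mathlib.RingTheory.Flat.FaithfullyFlat.Algebra
import Mathlib.RingTheory.IntegralClosure.IntegralRestrict

/-! A finitely presented algebra in characteristic `p` is etale iff its relative Frobenius is bijective. -/

set_option autoImplicit false
set_option linter.style.haveILetI false

universe u v w

open TensorProduct FrobAlg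

noncomputable section

namespace Groth.L15.Frob

variable (p : ℕ) [hp : Fact p.Prime]

theorem surjective_of_unramified (A : Type u) [CommRing A] {D : Type v} {B : Type w} [CommRing D] [CommRing B]
    [Algebra A B] [Algebra.FormallyUnramified A B] [Algebra.FiniteType A B] [CharP B p] (c : D →+* B)
    (d : A →+* D) (hd : c.comp d = algebraMap A B) (h : ∀ b, b ^ p ∈ c.range) : Function.Surjective c := by
  algebraize [c, d]
  haveI : IsScalarTower A D B := IsScalarTower.of_algebraMap_eq fun a => (RingHom.congr_fun hd a).symm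
  haveI : Algebra.FormallyUnramified D B := Algebra.FormallyUnramified.of_restrictScalars (R := A) D B
  haveI : Algebra.FiniteType D B := Algebra.FiniteType.of_restrictScalars_finiteType A D B
  haveI : Algebra.IsIntegral D B := ⟨fun b => by
    obtain ⟨x, hx⟩ := h b
    exact IsIntegral.of_pow hp.out.pos (by rw [← hx]; exact isIntegral_algebraMap (R := D) (A := B) (x := x))⟩
  haveI : Module.Finite D B := Algebra.IsIntegral.finite
  refine (Algebra.isEpi_iff_surjective_algebraMap_of_finite (R := D) (A := B)).1
    ((Algebra.isEpi_iff_forall_one_tmul_eq D B).2 fun b => ?_)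
  rcases subsingleton_or_nontrivial (B ⊗[D] B) with hT | hT
  · exact Subsingleton.elim _ _
  haveI : CharP (B ⊗[D] B) p := by
    refine (CharP.charP_iff_prime_eq_zero hp.out).2 ?_
    rw [← map_natCast (algebraMap B (B ⊗[D] B)), CharP.cast_eq_zero, map_zero]
  have hI : IsIdempotentElem (KaehlerDifferential.ideal D B) := by
    rw [← Ideal.cotangent_subsingleton_iff]
    exact (inferInstance : Subsingleton (KaehlerDifferential D B))
  obtain ⟨e, he, hIe⟩ := (Ideal.isIdempotentElem_iff_of_fg _ (KaehlerDifferential.ideal_fg D B)).1 hI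
  have hle : KaehlerDifferential.ideal D B ≤ nilradical (B ⊗[D] B) := by
    rw [← KaehlerDifferential.span_range_eq_ideal, Ideal.span_le]
    rintro _ ⟨s, rfl⟩
    refine ⟨p, ?_⟩
    rw [sub_pow_char]
    obtain ⟨x, hx⟩ := h s
    simp only [Algebra.TensorProduct.tmul_pow, one_pow, ← hx]
    rw [show c x = x • (1 : B) from by rw [Algebra.smul_def, mul_one]; rfl, TensorProduct.smul_tmul, sub_self]
    exact zero_mem _
  have he0 : e = 0 := by
    obtain ⟨n, hn⟩ := hle (hIe ▸ Ideal.mem_span_singleton_self e : e ∈ KaehlerDifferential.ideal D B)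
    rw [← he.pow_succ_eq n, pow_succ, hn, zero_mul]
  have hb : (1 : B) ⊗ₜ[D] b - b ⊗ₜ[D] (1 : B) ∈ KaehlerDifferential.ideal D B := by
    rw [← KaehlerDifferential.span_range_eq_ideal]
    exact Ideal.subset_span ⟨b, rfl⟩
  rw [hIe, he0] at hb
  simp only [Ideal.submodule_span_eq, Ideal.span_singleton_eq_bot.2 rfl, Ideal.mem_bot, sub_eq_zero] at hb
  exact hb

variable (A : Type u) [CommRing A] [CharP A p] (B : Type u) [CommRing B] [Algebra A B] [CharP B p]

theorem relFrob_self_bijective : Function.Bijective (relFrob p A A) := by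
  refine Function.bijective_iff_has_inverse.2 ⟨fun a => 1 ⊗ₜ toTwist p A a, fun x => ?_, fun a => ?_⟩
  · induction x using TensorProduct.induction_on with
    | zero => simp
    | add x y hx hy => simp only [map_add, TensorProduct.tmul_add] at hx hy ⊢; rw [hx, hy]
    | tmul b a =>
      have hb : b ⊗ₜ[A] a = (1 : A) ⊗ₜ[A] (b • a) := by
        rw [TensorProduct.tmul_smul, TensorProduct.smul_tmul', smul_eq_mul, mul_one]
      rw [hb]
      generalize b • a = c
      simp [relFrob_tmul]
  · simp [relFrob_tmul]

theorem pow_eq_tmul_one (x : BaseChange p A B) [CharP (BaseChange p A B) p] :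
    x ^ p = relFrob p A B x ⊗ₜ 1 := by
  induction x using TensorProduct.induction_on with
  | zero => simp [zero_pow hp.out.ne_zero]
  | add x y hx hy => rw [map_add, TensorProduct.add_tmul, add_pow_char, hx, hy]
  | tmul b a =>
    rw [Algebra.TensorProduct.tmul_pow, relFrob_tmul, mul_comm, ← Algebra.smul_def, TensorProduct.smul_tmul]
    congr 1
    rw [Algebra.smul_def, mul_one, algebraMap_twist, map_pow, RingEquiv.apply_symm_apply]

theorem bijective_relFrob [Algebra.Etale A B] : Function.Bijective (relFrob p A B) := by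
  have hflat : (relFrob p A B).Flat :=
    flat_relFrob_of_etale p A A B (RingHom.Flat.of_bijective (relFrob_self_bijective p A))
  have hsurj : Function.Surjective (relFrob p A B) := by
    refine surjective_of_unramified p A (relFrob p A B)
      ((Algebra.TensorProduct.includeRight : Twist p A →ₐ[A] BaseChange p A B).toRingHom.comp
        (toTwist p A).toRingHom) ?_ fun b => ⟨b ⊗ₜ 1, by simp [relFrob_tmul]⟩
    ext a
    simp [relFrob_tmul]
  refine ⟨?_, hsurj⟩
  rcases subsingleton_or_nontrivial (BaseChange p A B) with hT | hT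
  · exact fun _ _ _ => Subsingleton.elim _ _
  haveI : CharP (BaseChange p A B) p := by
    refine (CharP.charP_iff_prime_eq_zero hp.out).2 ?_
    rw [← map_natCast (algebraMap B (BaseChange p A B)), CharP.cast_eq_zero, map_zero]
  algebraize [relFrob p A B]
  haveI : Module.Flat (BaseChange p A B) B := hflat
  haveI : Module.FaithfullyFlat (BaseChange p A B) B := by
    refine Module.FaithfullyFlat.of_comap_surjective fun q => ?_
    let ι : B →+* BaseChange p A B := Algebra.TensorProduct.includeLeftRingHom
    refine ⟨⟨q.asIdeal.comap ι, inferInstance⟩, PrimeSpectrum.ext (Ideal.ext fun x => ?_)⟩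
    change relFrob p A B x ⊗ₜ (1 : Twist p A) ∈ q.asIdeal ↔ x ∈ q.asIdeal
    rw [← pow_eq_tmul_one]
    exact ⟨fun h => q.2.mem_of_pow_mem p h, fun h => Ideal.pow_mem_of_mem _ h p hp.out.pos⟩
  exact FaithfulSMul.algebraMap_injective (BaseChange p A B) B

theorem formallyEtale_of_bijective (h : Function.Bijective (relFrob p A B)) :
    Algebra.FormallyEtale A B := by
  refine Algebra.FormallyEtale.iff_comp_bijective.2 fun C _ _ I hI => ?_
  rcases subsingleton_or_nontrivial C with hC | hC
  · refine ⟨fun f g _ => AlgHom.ext fun b => Subsingleton.elim _ _, fun g => ?_⟩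
    haveI : Subsingleton (C ⧸ I) := (Ideal.Quotient.mkₐ_surjective A I).subsingleton
    let e : C ≃ₐ[A] C ⧸ I := AlgEquiv.ofBijective (Ideal.Quotient.mkₐ A I)
      ⟨fun _ _ _ => Subsingleton.elim _ _, Ideal.Quotient.mkₐ_surjective A I⟩
    exact ⟨e.symm.toAlgHom.comp g, AlgHom.ext fun b => Subsingleton.elim _ _⟩
  haveI : CharP C p := by
    refine (CharP.charP_iff_prime_eq_zero hp.out).2 ?_
    rw [← map_natCast (algebraMap A C), CharP.cast_eq_zero, map_zero]
  let σ : C ⧸ I →+* C := Ideal.Quotient.lift I (frobenius C p) fun x hx => by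
    have : x ^ p ∈ I ^ p := Ideal.pow_mem_pow hx p
    exact (Submodule.mem_bot C).1 (hI ▸ Ideal.pow_le_pow_right hp.out.two_le this)
  have hσ : ∀ c : C, σ (Ideal.Quotient.mk I c) = c ^ p := fun c => rfl
  refine ⟨fun f g hfg => AlgHom.ext fun b => ?_, fun φ => ?_⟩
  · obtain ⟨x, rfl⟩ := h.2 b
    induction x using TensorProduct.induction_on with
    | zero => simp
    | add x y hx hy => simp only [map_add, hx, hy]
    | tmul b a =>
      have hb : Ideal.Quotient.mk I (f b) = Ideal.Quotient.mk I (g b) := AlgHom.congr_fun hfg b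
      simp [relFrob_tmul, map_pow, ← hσ, hb]
  let φ' : B →ₐ[A] Target p A C :=
    { toRingHom := (toTarget p A C : C →+* Target p A C).comp (σ.comp φ.toRingHom)
      commutes' := fun a => by
        change σ (φ (algebraMap A B a)) = toTarget p A C ((algebraMap A C a) ^ p)
        rw [φ.commutes]
        rfl }
  let ψ : BaseChange p A B →+* C := ((toTarget p A C).symm : Target p A C →+* C).comp
    (Algebra.TensorProduct.lift φ' (inclHom p A C) fun _ _ => Commute.all _ _).toRingHom
  have hψ : ∀ b a, ψ (b ⊗ₜ a) = σ (φ b) * algebraMap A C ((toTwist p A).symm a) := fun b a => rfl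
  let e := RingEquiv.ofBijective _ h
  have he : ∀ x, e.symm (relFrob p A B x) = x := fun x => e.symm_apply_apply x
  let g : B →ₐ[A] C :=
    { toRingHom := ψ.comp e.symm.toRingHom
      commutes' := fun a => by
        have : algebraMap A B a = relFrob p A B (1 ⊗ₜ toTwist p A a) := by simp [relFrob_tmul]
        change ψ (e.symm (algebraMap A B a)) = _
        rw [this, he, hψ, map_one, map_one, one_mul, RingEquiv.symm_apply_apply] }
  refine ⟨g, AlgHom.ext fun b => ?_⟩
  obtain ⟨x, rfl⟩ := h.2 b
  change Ideal.Quotient.mk I (ψ (e.symm (relFrob p A B x))) = φ (relFrob p A B x)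
  rw [he]
  induction x using TensorProduct.induction_on with
  | zero => simp
  | add x y hx hy => simp only [map_add, hx, hy]
  | tmul b a =>
    obtain ⟨c, hc⟩ := Ideal.Quotient.mk_surjective (φ b)
    rw [hψ, relFrob_tmul, map_mul, map_mul, map_pow, ← hc, hσ, map_pow, φ.commutes]
    rfl

end Groth.L15.Frob
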