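import Groth.Prelude.Def_FrobAlg
import Groth.Agent.L03.GeomReduced2
import Mathlib.FieldTheory.PurelyInseparable.Basic
import Mathlib.Algebra.CharP.Lemmas
import Mathlib.LinearAlgebra.Basis.VectorSpace
import Mathlib.RingTheory.Flat.Basic

/-! Geometric reducedness is tested by the Frobenius base change of the ground field. -/

set_option autoImplicit false
set_option linter.style.haveILetI false

universe u

open TensorProduct FrobAlg

noncomputable section

namespace Groth.L15.Frob

variable (p : ℕ) [hp : Fact p.Prime] (k : Type u) [Field k] [CharP k p]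

/-- `e` is linearly independent over the subfield of `p^N`-th powers. -/
def PowIndep (N : ℕ) {ι : Type} [Fintype ι] (e : ι → k) : Prop :=
  ∀ v : ι → k, (∑ i, v i ^ p ^ N * e i) = 0 → v = 0

theorem exists_powIndep_decomp (N : ℕ) {ι : Type} [Fintype ι] (c : ι → k) :
    ∃ (m : ℕ) (e : Fin m → k) (d : ι → Fin m → k), PowIndep p k N e ∧ ∀ i, c i = ∑ l, d i l ^ p ^ N * e l := by
  classical
  let F : Subfield k := (iterateFrobenius k p N).fieldRange
  let W : Submodule F k := Submodule.span F (Set.range c)
  haveI : Module.Finite F W := Module.Finite.span_of_finite F (Set.finite_range c)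
  let b := Module.finBasis F W
  have hF : ∀ x : F, ∃ v : k, v ^ p ^ N = (x : k) := fun x => by
    obtain ⟨v, hv⟩ := x.2
    exact ⟨v, by rw [← hv, iterateFrobenius_def]⟩
  choose root hroot using hF
  refine ⟨_, fun l => (b l : k), fun i l => root (b.repr ⟨c i, Submodule.subset_span ⟨i, rfl⟩⟩ l),
    fun v hv => ?_, fun i => ?_⟩
  · have hmem : ∀ l, v l ^ p ^ N ∈ F := fun l => ⟨v l, iterateFrobenius_def ..⟩
    have hw : (∑ l, (⟨_, hmem l⟩ : F) • b l) = 0 := Subtype.ext (by
      simpa [Subfield.smul_def] using hv)
    funext l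
    have h0 := Fintype.linearIndependent_iff.1 b.linearIndependent _ hw l
    exact pow_eq_zero_iff (pow_ne_zero _ hp.out.ne_zero) |>.1 (congrArg Subtype.val h0)
  · simp only [hroot]
    have h := congrArg Subtype.val (b.sum_repr ⟨c i, Submodule.subset_span ⟨i, rfl⟩⟩)
    simp only [AddSubmonoidClass.coe_finsetSum, SetLike.val_smul, Subfield.smul_def, smul_eq_mul] at h
    exact h.symm

variable (A : Type u) [CommRing A] [Algebra k A]

/-- Frobenius stable independence -/
def PowInj (N : ℕ) : Prop :=
  ∀ {ι : Type} [Fintype ι] (e : ι → k) (a : ι → A), PowIndep p k N e →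
    (∑ i, algebraMap k A (e i) * a i ^ p ^ N) = 0 → a = 0

theorem powInj_one [IsReduced (A ⊗[k] Twist p k)] : PowInj p k A 1 := by
  intro ι _ e a he h0
  classical
  rcases subsingleton_or_nontrivial A with hA | hA
  · exact Subsingleton.elim _ _
  haveI : CharP A p := charP_of_injective_algebraMap (algebraMap k A).injective p
  rcases subsingleton_or_nontrivial (A ⊗[k] Twist p k) with hT | hT
  · haveI : Nontrivial (Twist p k) := inferInstanceAs (Nontrivial k)
    exact absurd hT (not_subsingleton_iff_nontrivial.2 inferInstance)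
  haveI : CharP (A ⊗[k] Twist p k) p :=
    charP_of_injective_algebraMap (algebraMap k (A ⊗[k] Twist p k)).injective p
  let τ := toTwist p k
  have hz : (∑ i, a i ⊗ₜ[k] τ (e i)) = 0 := by
    refine IsReduced.eq_zero _ ⟨p, ?_⟩
    rw [sum_pow_char]
    have : ∀ i, (a i ⊗ₜ[k] τ (e i)) ^ p = (algebraMap k A (e i) * a i ^ p ^ 1) ⊗ₜ[k] (1 : Twist p k) := fun i => by
      rw [Algebra.TensorProduct.tmul_pow, pow_one, ← Algebra.smul_def, TensorProduct.smul_tmul, ← map_pow,
        Algebra.smul_def, mul_one, algebraMap_twist]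
    rw [Finset.sum_congr rfl fun i _ => this i, ← TensorProduct.sum_tmul, h0, TensorProduct.zero_tmul]
  have hli : LinearIndependent k fun i => τ (e i) := by
    rw [Fintype.linearIndependent_iff]
    intro g hg i
    refine congrFun (he g ?_) i
    apply τ.injective
    rw [map_sum, map_zero, ← hg]
    refine Finset.sum_congr rfl fun i _ => ?_
    rw [Algebra.smul_def, algebraMap_twist, map_mul, pow_one]
  let L := Fintype.linearCombination k fun i => τ (e i)
  have hL : Function.Injective L := linearIndependent_iff_injective_fintypeLinearCombination.1 hli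
  have hinj : Function.Injective (LinearMap.lTensor A L) :=
    Module.Flat.lTensor_preserves_injective_linearMap L hL
  have h1 : (∑ i, a i ⊗ₜ[k] (Pi.single i (1 : k) : ι → k)) = 0 := hinj (by
    rw [map_sum, map_zero, ← hz]
    simp [L, Fintype.linearCombination_apply_single])
  funext i
  have h2 := congrArg ((TensorProduct.rid k A).toLinearMap.comp
    (LinearMap.lTensor A (LinearMap.proj i : (ι → k) →ₗ[k] k))) h1
  simpa [Pi.single_apply] using h2

theorem powInj_succ {N : ℕ} (hN : PowInj p k A N) (h1 : PowInj p k A 1) : PowInj p k A (N + 1) := by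
  intro ι _ e a he h0
  classical
  rcases subsingleton_or_nontrivial A with hA | hA
  · exact Subsingleton.elim _ _
  haveI : CharP A p := charP_of_injective_algebraMap (algebraMap k A).injective p
  obtain ⟨m, f, c, hf, hc⟩ := exists_powIndep_decomp p k 1 e
  have hb : (fun l => ∑ i, algebraMap k A (c i l) * a i ^ p ^ N) = 0 := by
    refine h1 f _ hf ?_
    rw [← h0]
    simp only [hc, map_sum, map_mul, map_pow, Finset.sum_mul, pow_one, sum_pow_char, mul_pow, ← pow_mul,
      ← pow_succ, Finset.mul_sum]
    rw [Finset.sum_comm]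
    exact Finset.sum_congr rfl fun i _ => Finset.sum_congr rfl fun l _ => by ring
  choose r g d hg hd using fun l => exists_powIndep_decomp p k N fun i => c i l
  have hzero : ∀ l j, (∑ i, algebraMap k A (d l i j) * a i) = 0 := fun l => by
    refine congrFun (hN (g l) _ (hg l) ?_)
    refine Eq.trans ?_ (congrFun hb l)
    simp only [hd, map_sum, map_mul, map_pow, Finset.sum_mul, sum_pow_char_pow, mul_pow, Finset.mul_sum]
    rw [Finset.sum_comm]
    exact Finset.sum_congr rfl fun i _ => Finset.sum_congr rfl fun l _ => by ring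
  let Λ : (ι → k) →ₗ[k] ((l : Fin m) × Fin (r l) → k) :=
    LinearMap.pi fun lj => ∑ i, d lj.1 i lj.2 • LinearMap.proj i
  have hΛ : LinearMap.ker Λ = ⊥ := by
    refine LinearMap.ker_eq_bot'.2 fun v hv => he v ?_
    have hv' : ∀ l j, (∑ i, d l i j * v i) = 0 := fun l j => by
      have := congrFun hv ⟨l, j⟩
      simpa [Λ] using this
    have hcv : ∀ l, (∑ i, c i l * v i ^ p ^ N) = 0 := fun l => by
      simp only [hd, Finset.sum_mul]
      rw [Finset.sum_comm]
      refine Finset.sum_eq_zero fun j _ => ?_
      have hz : (∑ i, d l i j ^ p ^ N * v i ^ p ^ N) = 0 := by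
        simp only [← mul_pow]
        rw [← sum_pow_char_pow, hv', zero_pow (pow_ne_zero _ hp.out.ne_zero)]
      calc (∑ i, d l i j ^ p ^ N * g l j * v i ^ p ^ N)
          = g l j * ∑ i, d l i j ^ p ^ N * v i ^ p ^ N := by
            rw [Finset.mul_sum]; exact Finset.sum_congr rfl fun i _ => by ring
        _ = 0 := by rw [hz, mul_zero]
    simp only [hc, pow_one, Finset.mul_sum]
    rw [Finset.sum_comm]
    refine Finset.sum_eq_zero fun l _ => ?_
    calc (∑ i, v i ^ p ^ (N + 1) * (c i l ^ p * f l))
        = f l * (∑ i, c i l * v i ^ p ^ N) ^ p := by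
          rw [sum_pow_char, Finset.mul_sum]
          exact Finset.sum_congr rfl fun i _ => by rw [mul_pow, ← pow_mul, ← pow_succ]; ring
      _ = 0 := by rw [hcv, zero_pow hp.out.ne_zero, mul_zero]
  obtain ⟨G, hG⟩ := Λ.exists_leftInverse_of_injective hΛ
  funext i
  have hG' : ∀ i', (∑ lj : (l : Fin m) × Fin (r l), G (Pi.single lj 1) i * d lj.1 i' lj.2) =
      (if i' = i then 1 else 0) := fun i' => by
    have h2 := congrFun (LinearMap.congr_fun hG (Pi.single i' 1)) i
    rw [LinearMap.comp_apply, LinearMap.id_apply] at h2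
    have h3 : Λ (Pi.single i' 1) = fun lj => d lj.1 i' lj.2 := funext fun lj => by
      simp [Λ, Pi.single_apply]
    rw [h3, pi_eq_sum_univ' (fun lj : (l : Fin m) × Fin (r l) => d lj.1 i' lj.2), map_sum] at h2
    simp only [map_smul, Finset.sum_apply, Pi.smul_apply, smul_eq_mul] at h2
    rw [Pi.single_apply] at h2
    rw [← (by by_cases hii : i = i' <;> simp [hii, eq_comm] :
      (if i = i' then (1 : k) else 0) = if i' = i then 1 else 0), ← h2]
    exact Finset.sum_congr rfl fun lj _ => mul_comm _ _
  calc a i = ∑ i', algebraMap k A (if i' = i then 1 else 0) * a i' := by simp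
    _ = ∑ i', ∑ lj : (l : Fin m) × Fin (r l),
          algebraMap k A (G (Pi.single lj 1) i) * (algebraMap k A (d lj.1 i' lj.2) * a i') := by
        refine Finset.sum_congr rfl fun i' _ => ?_
        rw [← hG', map_sum, Finset.sum_mul]
        simp only [map_mul, mul_assoc]
    _ = 0 := by
        rw [Finset.sum_comm]
        refine Finset.sum_eq_zero fun lj _ => ?_
        rw [← Finset.mul_sum, hzero, mul_zero]

theorem powInj [IsReduced (A ⊗[k] Twist p k)] : ∀ N, PowInj p k A (N + 1)
  | 0 => powInj_one p k A
  | N + 1 => powInj_succ p k A (powInj N) (powInj_one p k A)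

theorem exists_sum_tmul {k' : Type u} [CommRing k'] [Algebra k k'] {ι : Type} [Fintype ι]
    (b : Module.Basis ι k k') (x : k' ⊗[k] A) : ∃ a : ι → A, x = ∑ i, b i ⊗ₜ[k] a i := by
  induction x using TensorProduct.induction_on with
  | zero => exact ⟨0, by simp⟩
  | add x y hx hy =>
    obtain ⟨x', rfl⟩ := hx
    obtain ⟨y', rfl⟩ := hy
    exact ⟨x' + y', by simp [TensorProduct.tmul_add, Finset.sum_add_distrib]⟩
  | tmul u v =>
    refine ⟨fun i => b.repr u i • v, ?_⟩
    simp only [TensorProduct.tmul_smul, TensorProduct.smul_tmul', ← TensorProduct.sum_tmul]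
    rw [b.sum_repr]

/-- Geometric reducedness is tested by the Frobenius of the ground field. -/
theorem isGeometricallyReduced_of_frobenius [IsReduced (A ⊗[k] Twist p k)] :
    Algebra.IsGeometricallyReduced k A := by
  refine Groth.L03.GeomReduced2.isGeometricallyReduced_of_purelyInseparable k A fun k' _ _ _ _ => ?_
  rcases subsingleton_or_nontrivial A with hA | hA
  · haveI : Subsingleton (A ⊗[k] k') := Module.subsingleton A _
    haveI : Subsingleton (k' ⊗[k] A) := (TensorProduct.comm k k' A).toEquiv.subsingleton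
    infer_instance
  haveI : CharP A p := charP_of_injective_algebraMap (algebraMap k A).injective p
  haveI : CharP k' p := charP_of_injective_algebraMap (algebraMap k k').injective p
  haveI : ExpChar k p := ExpChar.prime hp.out
  haveI : CharP (k' ⊗[k] A) p :=
    charP_of_injective_algebraMap (algebraMap k (k' ⊗[k] A)).injective p
  let b := Module.finBasis k k'
  choose n hn using fun i => IsPurelyInseparable.pow_mem k p (b i)
  refine ⟨fun z hz => ?_⟩
  obtain ⟨N₀, hN₀⟩ := hz
  let N := (Finset.univ.sum n) + N₀
  have hmem : ∀ i, ∃ l : k, algebraMap k k' l = b i ^ p ^ (N + 1) := fun i => by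
    obtain ⟨l, hl⟩ := hn i
    refine ⟨l ^ p ^ (N + 1 - n i), ?_⟩
    have hle : n i ≤ N + 1 := ((Finset.single_le_sum (fun j _ => Nat.zero_le (n j)) (Finset.mem_univ i)).trans
      (Nat.le_add_right _ _)).trans (Nat.le_succ _)
    rw [map_pow, hl, ← pow_mul, ← pow_add, Nat.add_sub_cancel' hle]
  choose l hl using hmem
  obtain ⟨a, rfl⟩ := exists_sum_tmul k A b z
  have hpow : (∑ i, b i ⊗ₜ[k] a i) ^ p ^ (N + 1) = 0 := by
    refine pow_eq_zero_of_le ?_ hN₀
    exact ((Nat.le_add_left _ _).trans (Nat.le_succ _)).trans (Nat.lt_pow_self hp.out.one_lt).le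
  have hsum : (∑ i, algebraMap k A (l i) * a i ^ p ^ (N + 1)) = 0 := by
    have hinj : Function.Injective (Algebra.TensorProduct.includeRight : A →ₐ[k] k' ⊗[k] A) :=
      Algebra.TensorProduct.includeRight_injective (algebraMap k k').injective
    apply hinj
    rw [map_zero, ← hpow, sum_pow_char_pow, map_sum]
    refine Finset.sum_congr rfl fun i _ => ?_
    rw [Algebra.TensorProduct.tmul_pow, ← hl, Algebra.TensorProduct.includeRight_apply, ← Algebra.smul_def,
      TensorProduct.tmul_smul, TensorProduct.smul_tmul', Algebra.smul_def, mul_one]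
  have hind : PowIndep p k (N + 1) l := fun v hv => by
    have h0 : (∑ i, v i • b i) = 0 := by
      refine (pow_eq_zero_iff (pow_ne_zero (N + 1) hp.out.ne_zero)).1 ?_
      rw [sum_pow_char_pow]
      have := congrArg (algebraMap k k') hv
      rw [map_zero, map_sum] at this
      refine Eq.trans (Finset.sum_congr rfl fun i _ => ?_) this
      rw [smul_pow, map_mul, hl, Algebra.smul_def]
    exact funext fun i => Fintype.linearIndependent_iff.1 b.linearIndependent v h0 i
  have ha := powInj p k A N l a hind hsum
  simp only [congrFun ha, Pi.zero_apply, TensorProduct.tmul_zero, Finset.sum_const_zero]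
end Groth.L15.Frob
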