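import Groth.Agent.L15.Frob.EtaleIff
import Groth.Prelude.Def_W4c2gaugesfzipsQuiet
import Mathlib.RingTheory.AdjoinRoot
import Mathlib.LinearAlgebra.TensorProduct.Basis
import Mathlib.RingTheory.TensorProduct.Free

/-! p-bases: the relative Frobenius of an algebra etale over affine space is free on monomials. -/

set_option autoImplicit false
set_option linter.style.haveILetI false

universe u v w

open TensorProduct FrobAlg

noncomputable section

namespace Groth.L15.Frob

section HasBasis

variable {D : Type u} {R : Type v} [CommRing D] [CommRing R] {ι : Type w} [Fintype ι]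

/-- `R` is free over `D` via `c` on the family `v`. -/
def HasBasis (c : D →+* R) (v : ι → R) : Prop := Function.Bijective fun w : ι → D => ∑ i, c (w i) * v i

theorem HasBasis.comp_ringEquiv {D' : Type*} [CommRing D'] {c : D →+* R} {v : ι → R} (h : HasBasis c v)
    (e : D' ≃+* D) : HasBasis (c.comp e.toRingHom) v :=
  h.comp ⟨fun a b hab => funext fun i => e.injective (congrFun hab i),
    fun w => ⟨fun i => e.symm (w i), funext fun i => e.apply_symm_apply (w i)⟩⟩

theorem HasBasis.ringEquiv_comp {R' : Type*} [CommRing R'] {c : D →+* R} {v : ι → R} (h : HasBasis c v)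
    (e : R ≃+* R') : HasBasis (e.toRingHom.comp c) (e ∘ v) := by
  have : (fun w : ι → D => ∑ i, (e.toRingHom.comp c) (w i) * (e ∘ v) i) =
      e ∘ fun w : ι → D => ∑ i, c (w i) * v i := by
    funext w; simp [map_sum]
  rw [HasBasis, this]
  exact e.bijective.comp h

theorem HasBasis.congr_family {c : D →+* R} {v : ι → R} (h : HasBasis c v) {v' : ι → R} (e : ∀ i, v' i = v i) :
    HasBasis c v' := by
  rwa [show v' = v from funext e]

/-- The basis attached to `HasBasis`. -/
theorem HasBasis.exists_basis [Algebra D R] {v : ι → R} (h : HasBasis (algebraMap D R) v) :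
    ∃ b : Module.Basis ι D R, ∀ i, b i = v i := by
  classical
  let E : (ι → D) ≃ₗ[D] R := LinearEquiv.ofBijective (Fintype.linearCombination D v) (by
    have e : ⇑(Fintype.linearCombination D v) = fun w : ι → D => ∑ i, algebraMap D R (w i) * v i := by
      funext w
      simp [Fintype.linearCombination_apply, Algebra.smul_def]
    rw [e]
    exact h)
  refine ⟨Module.Basis.ofEquivFun E.symm, fun i => ?_⟩
  simp [E, Fintype.linearCombination_apply_single]

theorem hasBasis_of_basis [Algebra D R] (b : Module.Basis ι D R) : HasBasis (algebraMap D R) b := by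
  have e : ⇑b.equivFun.symm = fun w : ι → D => ∑ i, algebraMap D R (w i) * b i := by
    funext w
    simp [Module.Basis.equivFun_symm_apply, Algebra.smul_def]
  show Function.Bijective _
  rw [← e]
  exact b.equivFun.symm.bijective

end HasBasis

section Monomials

/-- The monomials with exponents `< p`. -/
def monom {R : Type*} [CommRing R] (p : ℕ) {n : ℕ} (y : Fin n → R) (r : Fin n → Fin p) : R :=
  ∏ i, y i ^ (r i : ℕ)

theorem map_monom {R S : Type*} [CommRing R] [CommRing S] (f : R →+* S) (p : ℕ) {n : ℕ} (y : Fin n → R)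
    (r : Fin n → Fin p) : f (monom p y r) = monom p (f ∘ y) r := by
  simp [monom, map_prod]

theorem hasBasis_expand (A : Type u) [CommRing A] (p : ℕ) [NeZero p] (n : ℕ) :
    HasBasis (MvPolynomial.expand p : MvPolynomial (Fin n) A →ₐ[A] MvPolynomial (Fin n) A).toRingHom
      (monom p MvPolynomial.X) := by
  classical
  let φ := (MvPolynomial.expand p : MvPolynomial (Fin n) A →ₐ[A] MvPolynomial (Fin n) A)
  let b := MvPolynomial.basisMonomials (Fin n) A
  let E := ((Pi.basis fun _ : Fin n → Fin p => b).equiv b (digits p n))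
  let L : ((Fin n → Fin p) → MvPolynomial (Fin n) A) →ₗ[A] MvPolynomial (Fin n) A :=
    ∑ r, (LinearMap.mulRight A (monom p MvPolynomial.X r)).comp (φ.toLinearMap.comp (LinearMap.proj r))
  have hL : L = E.toLinearMap := (Pi.basis fun _ : Fin n → Fin p => b).ext fun rm => by
    rcases rm with ⟨r, m⟩
    rw [LinearEquiv.coe_coe, Module.Basis.equiv_apply]
    simp only [L, LinearMap.coe_sum, Finset.sum_apply, LinearMap.comp_apply, LinearMap.proj_apply,
      Pi.basis_apply, LinearMap.mulRight_apply, AlgHom.toLinearMap_apply]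
    rw [Finset.sum_eq_single r (fun s _ hs => by simp [hs]) (by simp)]
    have hm : monom p (MvPolynomial.X : Fin n → MvPolynomial (Fin n) A) r =
        MvPolynomial.monomial (Finsupp.equivFunOnFinite.symm fun i => (r i : ℕ)) 1 := by
      rw [MvPolynomial.monomial_eq, map_one, one_mul, Finsupp.prod_fintype _ _ (fun i => pow_zero _)]
      rfl
    simp only [Pi.single_eq_same, b, MvPolynomial.coe_basisMonomials, hm, φ, MvPolynomial.expand_monomial,
      MvPolynomial.monomial_mul, one_mul]
    exact congrArg (fun k => MvPolynomial.monomial k (1 : A)) (Finsupp.ext fun i => by simp [digits])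
  rw [HasBasis, show (fun w : (Fin n → Fin p) → MvPolynomial (Fin n) A => ∑ r, φ.toRingHom (w r) *
      monom p MvPolynomial.X r) = L from funext fun w => by simp [L], hL]
  exact E.bijective

end Monomials

section Frob

variable (p : ℕ) [hp : Fact p.Prime] (A : Type u) [CommRing A] [CharP A p]

theorem hasBasis_relFrob_mvPolynomial (n : ℕ) :
    HasBasis (relFrob p A (MvPolynomial (Fin n) A)) (monom p MvPolynomial.X) := by
  haveI : NeZero p := ⟨hp.out.ne_zero⟩
  let e : BaseChange p A (MvPolynomial (Fin n) A) ≃+* MvPolynomial (Fin n) A :=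
    (Algebra.TensorProduct.comm A _ (Twist p A)).toRingEquiv.trans
      ((MvPolynomial.algebraTensorAlgEquiv A (Twist p A)).toRingEquiv.trans
        (MvPolynomial.mapEquiv (Fin n) (toTwist p A).symm))
  have he : relFrob p A (MvPolynomial (Fin n) A) =
      (MvPolynomial.expand p : MvPolynomial (Fin n) A →ₐ[A] _).toRingHom.comp e.toRingHom := by
    refine Algebra.TensorProduct.ringHom_ext ?_ ?_
    · refine MvPolynomial.ringHom_ext (fun a => ?_) fun i => ?_
      · simp [e, relFrob_tmul, algebraMap_twist, Algebra.smul_def, map_pow]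
      · simp [e, relFrob_tmul]
    · ext a
      simp [e, relFrob_tmul, Algebra.smul_def]
  rw [he]
  exact (hasBasis_expand A p n).comp_ringEquiv e

variable (P R : Type u) [CommRing P] [CommRing R] [Algebra A P] [Algebra A R] [Algebra P R]
  [IsScalarTower A P R] [CharP P p] [CharP R p] [Algebra.Etale P R]

/-- p-bases go up along etale algebras. -/
theorem hasBasis_relFrob_of_etale {ι : Type w} [Fintype ι] {v : ι → P} (hP : HasBasis (relFrob p A P) v) :
    HasBasis (relFrob p A R) (algebraMap P R ∘ v) := by
  classical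
  let a := relFrob p A P
  let b := bcMap A (Twist p A) P R
  let c := relFrob p A R
  have hsq : ∀ q, c (b q) = algebraMap P R (a q) := fun q => RingHom.congr_fun (relFrob_comp_bcMap p A P R) q
  have hkey : ∀ r : R, r ^ p = c (r ⊗ₜ 1) := fun r => by simp [c, relFrob_tmul]
  have hkey' : ∀ q : P, q ^ p = a (q ⊗ₜ 1) := fun r => by simp [a, relFrob_tmul]
  have hc : ∀ x : BaseChange p A R, [CharP (BaseChange p A R) p] → x ^ p = c x ⊗ₜ 1 := fun x _ =>
    pow_eq_tmul_one p A R x
  have hb : ∀ q : P, b (q ⊗ₜ 1) = algebraMap P R q ⊗ₜ 1 := fun q => by simp [b, bcMap]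
  have hetb : b.Etale := etale_bcMap A (Twist p A) P R
  have hflata : a.Flat := by
    letI := a.toAlgebra
    obtain ⟨bP, -⟩ := HasBasis.exists_basis (D := BaseChange p A P) (R := P) hP
    haveI := Module.Free.of_basis bP
    exact (inferInstance : Module.Flat (BaseChange p A P) P)
  suffices H : ∀ (D Q : Type u) [CommRing D] [CommRing Q] (a : Q →+* P) (b : Q →+* D) (c : D →+* R),
      HasBasis a v → (∀ q, c (b q) = algebraMap P R (a q)) → a.Flat → b.Etale →
      (ιD : R → D) → (qP : P → Q) → (∀ r, r ^ p = c (ιD r)) → (∀ q, q ^ p = a (qP q)) →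
      (∀ q, b (qP q) = ιD (algebraMap P R q)) → (∀ r s, ιD (r * s) = ιD r * ιD s) →
      (∀ r s, ιD (r + s) = ιD r + ιD s) → ιD 1 = 1 →
      (p : D) = 0 → (∀ x : D, [CharP D p] → x ^ p = ιD (c x)) → HasBasis c (algebraMap P R ∘ v) from
    H _ _ a b c hP hsq hflata hetb (fun r => r ⊗ₜ 1) (fun q => q ⊗ₜ 1) hkey hkey' hb
      (fun r s => by simp) (fun r s => TensorProduct.add_tmul r s 1) rfl (by
        rw [← map_natCast (algebraMap A (BaseChange p A R)), CharP.cast_eq_zero, map_zero]) hc
  clear hc hkey hkey' hb hetb hflata hsq hP a b c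
  intro D Q _ _ a b c hP hsq hflat hb ιD qP hkey hkey' hbq hmul hadd hone hpD hc
  algebraize [a, b, c, (algebraMap P R).comp a]
  haveI : IsScalarTower Q D R := IsScalarTower.of_algebraMap_eq fun x => (hsq x).symm
  obtain ⟨bP, hbP⟩ := HasBasis.exists_basis (D := Q) (R := P) hP
  let g : D ⊗[Q] P →ₐ[D] R :=
    Algebra.TensorProduct.lift (Algebra.ofId D R) (IsScalarTower.toAlgHom Q P R) fun _ _ => Commute.all _ _
  have hg : ∀ d q, g (d ⊗ₜ q) = c d * algebraMap P R q := fun d q => rfl
  have hsurj : Function.Surjective g := by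
    refine surjective_of_unramified p P g.toRingHom
      (Algebra.TensorProduct.includeRight : P →ₐ[Q] D ⊗[Q] P).toRingHom ?_
      fun r => ⟨ιD r ⊗ₜ 1, ?_⟩
    · ext q
      simp [hg]
    · change g (ιD r ⊗ₜ 1) = r ^ p
      rw [hg, map_one, mul_one, hkey]
  have hinj : Function.Injective g := by
    rcases subsingleton_or_nontrivial (D ⊗[Q] P) with hT | hT
    · exact fun _ _ _ => Subsingleton.elim _ _
    haveI : Nontrivial D := by
      by_contra hD
      rw [not_nontrivial_iff_subsingleton] at hD
      haveI := hD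
      refine one_ne_zero (α := D ⊗[Q] P) ?_
      rw [Algebra.TensorProduct.one_def, Subsingleton.elim (1 : D) 0, TensorProduct.zero_tmul]
    have hpT : (p : D ⊗[Q] P) = 0 := by
      rw [← map_natCast (Algebra.TensorProduct.includeRight : P →ₐ[Q] D ⊗[Q] P), CharP.cast_eq_zero, map_zero]
    haveI : CharP (D ⊗[Q] P) p := (CharP.charP_iff_prime_eq_zero hp.out).2 hpT
    haveI : CharP D p := (CharP.charP_iff_prime_eq_zero hp.out).2 hpD
    let ι : R →+* D ⊗[Q] P :=
      { toFun := fun r => ιD r ⊗ₜ 1
        map_one' := by rw [hone]; rfl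
        map_mul' := fun r s => by rw [Algebra.TensorProduct.tmul_mul_tmul, one_mul, hmul]
        map_zero' := by
          have : ιD 0 = 0 := by simpa using hadd 0 0
          rw [this, TensorProduct.zero_tmul]
        map_add' := fun r s => by rw [hadd, TensorProduct.add_tmul] }
    have hι : ∀ x, ι (g x) = x ^ p := fun x => by
      induction x using TensorProduct.induction_on with
      | zero => simp [zero_pow hp.out.ne_zero]
      | add x y hx hy => rw [map_add, map_add, hx, hy, add_pow_char]
      | tmul d q =>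
        rw [hg, Algebra.TensorProduct.tmul_pow, hc, hkey', map_mul]
        change (ιD (c d) ⊗ₜ (1 : P)) * (ιD (algebraMap P R q) ⊗ₜ (1 : P)) = _
        rw [Algebra.TensorProduct.tmul_mul_tmul, one_mul, ← hbq]
        conv_rhs => rw [show a (qP q) = qP q • (1 : P) from (Algebra.algebraMap_eq_smul_one _), ← TensorProduct.smul_tmul]
        rw [Algebra.smul_def, mul_comm]
        rfl
    letI : Algebra (D ⊗[Q] P) R := g.toRingHom.toAlgebra
    letI : Algebra P (D ⊗[Q] P) := Algebra.TensorProduct.rightAlgebra
    haveI : IsScalarTower P (D ⊗[Q] P) R := IsScalarTower.of_algebraMap_eq fun q => by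
      change algebraMap P R q = g (1 ⊗ₜ q)
      rw [hg, map_one, one_mul]
    haveI : Algebra.Etale P (D ⊗[Q] P) := by
      haveI : Algebra.Etale Q D := hb
      exact (inferInstance : Algebra.Etale P (P ⊗[Q] D)).of_equiv
        (AlgEquiv.ofRingEquiv (f := (Algebra.TensorProduct.comm Q P D).toRingEquiv) fun q => rfl)
    haveI : Algebra.FormallyEtale (D ⊗[Q] P) R := .of_restrictScalars (R := P)
    haveI : Algebra.FinitePresentation (D ⊗[Q] P) R :=
      Algebra.FinitePresentation.of_restrict_scalars_finitePresentation P (D ⊗[Q] P) R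
    haveI : Algebra.Etale (D ⊗[Q] P) R := ⟨‹_›, ‹_›⟩
    haveI : Module.FaithfullyFlat (D ⊗[Q] P) R := by
      refine Module.FaithfullyFlat.of_comap_surjective fun q => ?_
      refine ⟨⟨q.asIdeal.comap ι, inferInstance⟩, PrimeSpectrum.ext (Ideal.ext fun x => ?_)⟩
      change ι (g x) ∈ q.asIdeal ↔ x ∈ q.asIdeal
      rw [hι]
      exact ⟨fun h => q.2.mem_of_pow_mem p h, fun h => Ideal.pow_mem_of_mem _ h p hp.out.pos⟩
    exact FaithfulSMul.algebraMap_injective (D ⊗[Q] P) R
  let bT := bP.baseChange D
  let bR := bT.map (LinearEquiv.ofBijective g.toLinearMap ⟨hinj, hsurj⟩)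
  have hR := hasBasis_of_basis bR
  refine HasBasis.congr_family (c := c) hR fun i => ?_
  simp [bR, bT, hg, hbP]

end Frob

section Tower

theorem isRootTower_of_hasBasis (p : ℕ) (hp : p ≠ 0) : ∀ (n : ℕ) (R S : Type u) [CommRing R] [CommRing S]
    [Algebra R S] (a : Fin n → R) (y : Fin n → S), (∀ i, y i ^ p = algebraMap R S (a i)) →
    HasBasis (algebraMap R S) (monom p y) → Quiet.IsRootTower p n R S
  | 0, R, S, _, _, _, a, y, _, h => by
    refine ⟨(AlgEquiv.ofBijective (Algebra.ofId R S) ?_).symm⟩
    have hg : Function.Bijective fun (r : R) (_ : Fin 0 → Fin p) => r :=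
      ⟨fun r s e => congrFun e Fin.elim0,
        fun w => ⟨w Fin.elim0, funext fun i => congrArg w (Subsingleton.elim _ _)⟩⟩
    have e : ⇑(Algebra.ofId R S) = (fun w : (Fin 0 → Fin p) → R => ∑ i, algebraMap R S (w i) * monom p y i) ∘
        fun (r : R) (_ : Fin 0 → Fin p) => r := by
      funext r
      simp [monom, Algebra.ofId_apply]
    rw [e]
    exact Function.Bijective.comp h hg
  | n + 1, R, S, _, _, _, a, y, hy, h => by
    classical
    let f : Polynomial R := Polynomial.X ^ p - Polynomial.C (a 0)
    have hm : f.Monic := Polynomial.monic_X_pow_sub_C (a 0) hp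
    let c' : Quiet.RootRing p R (a 0) →+* S :=
      AdjoinRoot.lift (algebraMap R S) (y 0) (by simp [hy 0])
    letI := c'.toAlgebra
    haveI : IsScalarTower R (Quiet.RootRing p R (a 0)) S :=
      IsScalarTower.of_algebraMap_eq fun r => (AdjoinRoot.lift_of (by simp [hy 0])).symm
    refine ⟨a 0, c'.toAlgebra, inferInstance, isRootTower_of_hasBasis p hp n _ _
      (fun i => AdjoinRoot.of f (a i.succ)) (fun i => y i.succ) (fun i => ?_) ?_⟩
    · rw [hy i.succ]
      exact (AdjoinRoot.lift_of (by simp [hy 0])).symm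
    have h1 : HasBasis (algebraMap R (Quiet.RootRing p R (a 0)))
        fun j : Fin p => AdjoinRoot.root f ^ (j : ℕ) := by
      rcases subsingleton_or_nontrivial R with hR | hR
      · haveI : Subsingleton (Quiet.RootRing p R (a 0)) := Module.subsingleton R _
        exact ⟨fun _ _ _ => Subsingleton.elim _ _, fun x => ⟨0, Subsingleton.elim _ _⟩⟩
      let pb := AdjoinRoot.powerBasis' hm
      have hd : pb.dim = p := Polynomial.natDegree_X_pow_sub_C
      refine HasBasis.congr_family (hasBasis_of_basis (pb.basis.reindex (finCongr hd))) fun j => ?_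
      rw [Module.Basis.reindex_apply, pb.basis_eq_pow]
      rfl
    let Φ : ((Fin n → Fin p) → Fin p → R) → (Fin n → Fin p) → Quiet.RootRing p R (a 0) :=
      fun w r => ∑ j, algebraMap R _ (w r j) * AdjoinRoot.root f ^ (j : ℕ)
    have hΦ : Function.Bijective Φ := by
      refine ⟨fun w w' e => funext fun r => h1.1 (congrFun e r), fun z => ?_⟩
      choose w hw using fun r => h1.2 (z r)
      exact ⟨w, funext hw⟩
    refine (Function.Bijective.of_comp_iff _ hΦ).1 ?_
    let Ψ : ((Fin n → Fin p) → Fin p → R) ≃ ((Fin (n + 1) → Fin p) → R) :=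
      ((Equiv.curry (Fin n → Fin p) (Fin p) R).symm).trans
        (Equiv.arrowCongr ((Equiv.prodComm _ _).trans (Fin.consEquiv fun _ => Fin p)) (Equiv.refl R))
    convert h.comp Ψ.bijective using 1
    funext w
    simp only [Function.comp_apply, Φ]
    rw [← (Fin.consEquiv fun _ : Fin (n + 1) => Fin p).sum_comp, Fintype.sum_prod_type, Finset.sum_comm]
    refine Finset.sum_congr rfl fun r _ => ?_
    rw [map_sum, Finset.sum_mul]
    refine Finset.sum_congr rfl fun j _ => ?_
    have hroot : c' (AdjoinRoot.root f) = y 0 := AdjoinRoot.lift_root _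
    have hcw : ∀ z : R, c' (algebraMap R (Quiet.RootRing p R (a 0)) z) = algebraMap R S z := fun z =>
      AdjoinRoot.lift_of _
    rw [RingHom.algebraMap_toAlgebra, map_mul, map_pow, hroot, hcw]
    simp [monom, Ψ, Fin.prod_univ_succ, mul_assoc]

end Tower

end Groth.L15.Frob
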