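import Groth.Prelude.Def_FrobAlg
import Mathlib.Algebra.MvPolynomial.Expand
import Mathlib.RingTheory.MvPolynomial.Basic
import Mathlib.RingTheory.TensorProduct.MvPolynomial
import Mathlib.RingTheory.RingHom.Flat
import Mathlib.RingTheory.RingHom.Etale
import Mathlib.RingTheory.RingHom.StandardSmooth
import Mathlib.RingTheory.Smooth.Flat
import Mathlib.RingTheory.Smooth.StandardSmoothOfFree
import Mathlib.RingTheory.Flat.Localization
import Mathlib.RingTheory.Etale.Basic

/-! The relative Frobenius of a smooth algebra is flat. -/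

set_option autoImplicit false
set_option linter.style.haveILetI false

universe u v w

open TensorProduct

noncomputable section

namespace Groth.L15.Frob

section Free

variable {A : Type u} [CommRing A] {P Q : Type*} [CommRing P] [CommRing Q] [Algebra A P] [Algebra A Q]

theorem flat_of_basis {ι J K : Type*} (φ : P →ₐ[A] Q) (bP : Module.Basis J A P)
    (bQ : Module.Basis K A Q) (e : (_ : ι) × J ≃ K) (x : ι → Q)
    (h : ∀ i j, φ (bP j) * x i = bQ (e ⟨i, j⟩)) : φ.toRingHom.Flat := by
  algebraize [φ.toRingHom]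
  haveI : IsScalarTower A P Q := IsScalarTower.of_algebraMap_eq fun a => (φ.commutes a).symm
  have hL : ∀ t, (Finsupp.linearCombination P x).restrictScalars A t =
      ((Finsupp.basis fun _ : ι => bP).equiv bQ e) t := by
    refine LinearMap.ext_iff.1 ((Finsupp.basis fun _ : ι => bP).ext fun ij => ?_)
    rcases ij with ⟨i, j⟩
    rw [LinearEquiv.coe_coe, Module.Basis.equiv_apply]
    simp [Finsupp.coe_basis, Algebra.smul_def, RingHom.algebraMap_toAlgebra, h]
  let E : (ι →₀ P) ≃ₗ[P] Q := LinearEquiv.ofBijective (Finsupp.linearCombination P x) (by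
    have : ⇑(Finsupp.linearCombination P x) = ⇑((Finsupp.basis fun _ : ι => bP).equiv bQ e) := funext hL
    rw [this]
    exact LinearEquiv.bijective _)
  haveI : Module.Free P Q := Module.Free.of_equiv E
  exact (inferInstance : Module.Flat P Q)

/-- The digit decomposition of exponents. -/
def digits (p : ℕ) [NeZero p] (n : ℕ) : (_ : Fin n → Fin p) × (Fin n →₀ ℕ) ≃ (Fin n →₀ ℕ) where
  toFun rm := Finsupp.equivFunOnFinite.symm fun i => p * rm.2 i + (rm.1 i : ℕ)
  invFun k := ⟨fun i => ⟨k i % p, Nat.mod_lt _ (NeZero.pos p)⟩, Finsupp.equivFunOnFinite.symm fun i => k i / p⟩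
  left_inv := fun ⟨r, m⟩ => by
    refine Sigma.ext (funext fun i => Fin.ext ?_) (heq_of_eq (Finsupp.ext fun i => ?_))
    · simp [Nat.mod_eq_of_lt (r i).isLt]
    · simp [Nat.mul_add_div (NeZero.pos p), Nat.div_eq_of_lt (r i).isLt]
  right_inv k := Finsupp.ext fun i => by simp [Nat.div_add_mod]

theorem flat_expand (A : Type u) [CommRing A] (p : ℕ) [NeZero p] (n : ℕ) :
    (MvPolynomial.expand p : MvPolynomial (Fin n) A →ₐ[A] MvPolynomial (Fin n) A).toRingHom.Flat := by
  refine flat_of_basis (ι := Fin n → Fin p) _ (MvPolynomial.basisMonomials (Fin n) A) (MvPolynomial.basisMonomials (Fin n) A)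
    (digits p n) (fun r => MvPolynomial.monomial (Finsupp.equivFunOnFinite.symm fun i => (r i : ℕ)) 1) fun r m => ?_
  simp only [MvPolynomial.coe_basisMonomials, MvPolynomial.expand_monomial, MvPolynomial.monomial_mul, one_mul]
  refine congrArg (fun k => MvPolynomial.monomial k (1 : A)) (Finsupp.ext fun i => ?_)
  simp [digits]

end Free

section BaseChange

variable (A : Type u) [CommRing A] (T : Type u) [CommRing T] [Algebra A T]
  (B : Type v) (C : Type w) [CommRing B] [CommRing C] [Algebra A B] [Algebra A C] [Algebra B C]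
  [IsScalarTower A B C]

/-- The base change map `B ⊗ T → C ⊗ T`. -/
abbrev bcMap : B ⊗[A] T →+* C ⊗[A] T :=
  (Algebra.TensorProduct.map (IsScalarTower.toAlgHom A B C) (AlgHom.id A T)).toRingHom

theorem bcMap_eq : bcMap A T B C =
    (RingEquiv.toRingHom ((Algebra.TensorProduct.comm B (B ⊗[A] T) C).toRingEquiv.trans
      (Algebra.TensorProduct.cancelBaseChange A B C C T).toRingEquiv)).comp
      (Algebra.TensorProduct.includeLeftRingHom : B ⊗[A] T →+* (B ⊗[A] T) ⊗[B] C) := by
  refine Algebra.TensorProduct.ringHom_ext ?_ ?_ <;> ext x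
  · simp [bcMap, Algebra.smul_def]
  · simp [bcMap]

theorem flat_bcMap [Module.Flat B C] : (bcMap A T B C).Flat := by
  rw [bcMap_eq]
  refine RingHom.Flat.comp ?_ (RingHom.Flat.of_bijective (RingEquiv.bijective _))
  exact (RingHom.flat_algebraMap_iff (R := B ⊗[A] T) (S := (B ⊗[A] T) ⊗[B] C)).2 inferInstance

theorem etale_bcMap [Algebra.Etale B C] : (bcMap A T B C).Etale := by
  rw [bcMap_eq]
  let e := (Algebra.TensorProduct.comm B (B ⊗[A] T) C).toRingEquiv.trans
      (Algebra.TensorProduct.cancelBaseChange A B C C T).toRingEquiv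
  letI : Algebra (B ⊗[A] T) (C ⊗[A] T) :=
    ((e.toRingHom).comp Algebra.TensorProduct.includeLeftRingHom).toAlgebra
  let e' : ((B ⊗[A] T) ⊗[B] C) ≃ₐ[B ⊗[A] T] C ⊗[A] T := AlgEquiv.ofRingEquiv (f := e) fun _ => rfl
  exact (inferInstance : Algebra.Etale (B ⊗[A] T) ((B ⊗[A] T) ⊗[B] C)).of_equiv e' 

end BaseChange

section Square

universe u₁ u₂ u₃ u₄

theorem flat_of_square {Q : Type u₁} {D : Type u₂} {P : Type u₃} {B : Type u₄} [CommRing Q] [CommRing D]
    [CommRing P] [CommRing B] [Algebra P B] [Algebra.Etale P B] (a : Q →+* P) (b : Q →+* D) (c : D →+* B)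
    (h : c.comp b = (algebraMap P B).comp a) (ha : a.Flat) (hb : b.Etale) : c.Flat := by
  algebraize [a, b, c, (algebraMap P B).comp a]
  haveI : IsScalarTower Q D B := IsScalarTower.of_algebraMap_eq fun x => (RingHom.congr_fun h x).symm
  let f : P ⊗[Q] D →ₐ[P] B :=
    Algebra.TensorProduct.lift (Algebra.ofId P B) (IsScalarTower.toAlgHom Q D B) fun _ _ => Commute.all _ _
  letI : Algebra (P ⊗[Q] D) B := f.toRingHom.toAlgebra
  haveI : IsScalarTower P (P ⊗[Q] D) B := IsScalarTower.of_algebraMap_eq fun x => (f.commutes x).symm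
  haveI : Algebra.FormallyEtale (P ⊗[Q] D) B := .of_restrictScalars (R := P)
  haveI : Algebra.FinitePresentation (P ⊗[Q] D) B :=
    Algebra.FinitePresentation.of_restrict_scalars_finitePresentation P (P ⊗[Q] D) B
  haveI : Algebra.Etale (P ⊗[Q] D) B := ⟨‹_›, ‹_›⟩
  have h1 : (Algebra.TensorProduct.includeRight : D →ₐ[Q] P ⊗[Q] D).toRingHom.Flat := by
    have e : (Algebra.TensorProduct.includeRight : D →ₐ[Q] P ⊗[Q] D).toRingHom =
        (RingEquiv.toRingHom (Algebra.TensorProduct.comm Q D P).toRingEquiv).comp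
          (algebraMap D (D ⊗[Q] P)) := by
      ext x; simp
    rw [e]
    exact RingHom.Flat.comp (RingHom.flat_algebraMap_iff.2 inferInstance)
      (RingHom.Flat.of_bijective (Algebra.TensorProduct.comm Q D P).bijective)
  have e : c = f.toRingHom.comp
      (Algebra.TensorProduct.includeRight : D →ₐ[Q] P ⊗[Q] D).toRingHom := by
    refine RingHom.ext fun x => ?_
    simp [f, RingHom.algebraMap_toAlgebra]
  rw [e]
  exact h1.comp (RingHom.flat_algebraMap_iff.2 (inferInstance : Module.Flat (P ⊗[Q] D) B))

end Square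

section Frob

variable (p : ℕ) [Fact p.Prime] (A : Type u) [CommRing A] [CharP A p]

open FrobAlg

theorem relFrob_tmul (B : Type v) [CommRing B] [Algebra A B] [CharP B p] (b : B) (a : Twist p A) :
    relFrob p A B (b ⊗ₜ a) = b ^ p * algebraMap A B ((toTwist p A).symm a) := by
  rfl

variable (B : Type v) (C : Type w) [CommRing B] [CommRing C] [Algebra A B] [Algebra A C] [Algebra B C]
  [IsScalarTower A B C] [CharP B p] [CharP C p]

theorem relFrob_comp_bcMap :
    (relFrob p A C).comp (bcMap A (Twist p A) B C) = (algebraMap B C).comp (relFrob p A B) := by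
  refine Algebra.TensorProduct.ringHom_ext ?_ ?_ <;> ext x
  · simp [bcMap, relFrob_tmul]
  · simp [bcMap, relFrob_tmul, ← IsScalarTower.algebraMap_apply]

end Frob

section Main

variable (p : ℕ) [Fact p.Prime] (A : Type u) [CommRing A] [CharP A p]

open FrobAlg

theorem flat_relFrob_mvPolynomial (n : ℕ) : (relFrob p A (MvPolynomial (Fin n) A)).Flat := by
  haveI : NeZero p := ⟨(Fact.out : p.Prime).ne_zero⟩
  let ι : Twist p A →+* A := ((toTwist p A).symm : Twist p A ≃+* A)
  let e : BaseChange p A (MvPolynomial (Fin n) A) ≃+* MvPolynomial (Fin n) A :=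
    (Algebra.TensorProduct.comm A _ (Twist p A)).toRingEquiv.trans
      ((MvPolynomial.algebraTensorAlgEquiv A (Twist p A)).toRingEquiv.trans
        (MvPolynomial.mapEquiv (Fin n) (toTwist p A).symm))
  have he : relFrob p A (MvPolynomial (Fin n) A) =
      (MvPolynomial.expand p : MvPolynomial (Fin n) A →ₐ[A] _).toRingHom.comp e := by
    refine Algebra.TensorProduct.ringHom_ext ?_ ?_
    · refine MvPolynomial.ringHom_ext (fun a => ?_) fun i => ?_
      · simp [e, relFrob_tmul, algebraMap_twist, Algebra.smul_def, map_pow]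
      · simp [e, relFrob_tmul]
    · ext a
      simp [e, relFrob_tmul, Algebra.smul_def]
  rw [he]
  exact RingHom.Flat.comp (RingHom.Flat.of_bijective e.bijective) (flat_expand A p n)

theorem flat_relFrob_of_etale (P : Type w) [CommRing P] [Algebra A P] [CharP P p]
    (B : Type v) [CommRing B] [Algebra A B] [CharP B p] [Algebra P B] [IsScalarTower A P B]
    [Algebra.Etale P B] (hP : (relFrob p A P).Flat) : (relFrob p A B).Flat :=
  flat_of_square (relFrob p A P) (bcMap A (Twist p A) P B) (relFrob p A B)
    (relFrob_comp_bcMap p A P B) hP (etale_bcMap A (Twist p A) P B)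

theorem flat_relFrob_of_isStandardSmooth (B : Type v) [CommRing B] [Algebra A B] [CharP B p]
    [Algebra.IsStandardSmooth A B] : (relFrob p A B).Flat := by
  obtain ⟨_, _, _, _, ⟨S⟩⟩ := Algebra.IsStandardSmooth.out (R := A) (S := B)
  haveI : Algebra.IsStandardSmoothOfRelativeDimension S.dimension A B :=
    ⟨_, _, _, inferInstance, S, rfl⟩
  obtain ⟨g, hg⟩ := Algebra.IsStandardSmoothOfRelativeDimension.exists_etale_mvPolynomial S.dimension A B
  letI := g.toRingHom.toAlgebra
  haveI : IsScalarTower A (MvPolynomial (Fin S.dimension) A) B :=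
    IsScalarTower.of_algebraMap_eq fun a => (g.commutes a).symm
  haveI : Algebra.Etale (MvPolynomial (Fin S.dimension) A) B := hg
  exact flat_relFrob_of_etale p A (MvPolynomial (Fin S.dimension) A) B (flat_relFrob_mvPolynomial p A _)

theorem flat_relFrob (B : Type v) [CommRing B] [Algebra A B] [CharP B p] [Algebra.Smooth A B] :
    (relFrob p A B).Flat := by
  obtain ⟨s, hs, hsm⟩ := Algebra.Smooth.exists_span_eq_top_isStandardSmooth (R := A) (S := B)
  letI : Algebra (BaseChange p A B) B := (relFrob p A B).toAlgebra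
  refine Module.flat_of_isLocalized_span B B s hs (fun r => Localization.Away (r : B))
    (fun r => Algebra.linearMap B _) fun r => ?_
  let L := Localization.Away (r : B)
  rcases subsingleton_or_nontrivial L with hL | hL
  · infer_instance
  haveI : CharP L p := by
    refine (CharP.charP_iff_prime_eq_zero (Fact.out : p.Prime)).2 ?_
    rw [← map_natCast (algebraMap B L), CharP.cast_eq_zero, map_zero]
  haveI : Algebra.IsStandardSmooth A L := hsm r.1 r.2
  have h : ((algebraMap B L).comp (relFrob p A B)).Flat := by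
    rw [← relFrob_comp_bcMap]
    exact RingHom.Flat.comp (flat_bcMap A (Twist p A) B L) (flat_relFrob_of_isStandardSmooth p A L)
  rw [← RingHom.flat_algebraMap_iff, IsScalarTower.algebraMap_eq (BaseChange p A B) B (Localization.Away (r : B))]
  exact h

end Main

end Groth.L15.Frob
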