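import Groth.Agent.L15.Frob.PBasisSmooth
import Groth.Agent.L19.RootSynt

/-! A p-basis presents a relative global complete intersection. -/

set_option autoImplicit false
set_option linter.style.haveILetI false

universe u

noncomputable section

namespace Groth.L15.Frob

open MvPolynomial in
theorem exists_relGCI_of_hasBasis (p : ℕ) (hp : p ≠ 0) {n : ℕ} {R S : Type u} [CommRing R] [CommRing S]
    [Algebra R S] (a : Fin n → R) (y : Fin n → S) (hy : ∀ i, y i ^ p = algebraMap R S (a i))
    (h : HasBasis (algebraMap R S) (monom p y)) :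
    ∃ F : Fin n → MvPolynomial (Fin n) R, Synt.IsRelGCI R n n F ∧
      Nonempty (Synt.RelGCIRing R n n F ≃ₐ[R] S) := by
  classical
  haveI : NeZero p := ⟨hp⟩
  let F : Fin n → MvPolynomial (Fin n) R := fun i => X i ^ p - C (a i)
  let I := Ideal.span (Set.range F)
  let T := MvPolynomial (Fin n) R ⧸ I
  let x : Fin n → T := fun i => Ideal.Quotient.mk I (X i)
  let π : T →ₐ[R] S := Ideal.Quotient.liftₐ I (aeval y) fun q hq => by
    have hle : I ≤ RingHom.ker (aeval y : MvPolynomial (Fin n) R →ₐ[R] S).toRingHom := by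
      rw [Ideal.span_le]
      rintro _ ⟨i, rfl⟩
      simp [F, hy]
    exact hle hq
  have hπx : ∀ i, π (x i) = y i := fun i => aeval_X y i
  have hxp : ∀ i, x i ^ p = algebraMap R T (a i) := fun i => by
    refine (map_pow (Ideal.Quotient.mk I) (X i) p).symm.trans ?_
    exact Ideal.Quotient.eq.2 (Ideal.subset_span ⟨i, rfl⟩)
  let M : Submodule R T := Submodule.span R (Set.range (monom p x))
  have hstep : ∀ i, ∀ m ∈ M, m * x i ∈ M := by
    intro i m hm
    induction hm using Submodule.span_induction with
    | mem m hm =>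
      obtain ⟨r, rfl⟩ := hm
      have hsplit : monom p x r = x i ^ (r i : ℕ) * ∏ j ∈ Finset.univ.erase i, x j ^ (r j : ℕ) :=
        (Finset.mul_prod_erase _ _ (Finset.mem_univ i)).symm
      have hupd : ∀ v : Fin p, monom p x (Function.update r i v) =
          x i ^ (v : ℕ) * ∏ j ∈ Finset.univ.erase i, x j ^ (r j : ℕ) := fun v => by
        rw [monom, ← Finset.mul_prod_erase _ _ (Finset.mem_univ i), Function.update_self]
        congr 1
        exact Finset.prod_congr rfl fun j hj => by rw [Function.update_of_ne (Finset.ne_of_mem_erase hj)]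
      by_cases hlt : (r i : ℕ) + 1 < p
      · refine Submodule.subset_span ⟨Function.update r i ⟨(r i : ℕ) + 1, hlt⟩, ?_⟩
        rw [hupd, hsplit, pow_succ]
        ring
      · have heq : (r i : ℕ) + 1 = p := by
          have := (r i).2
          omega
        have : monom p x r * x i = a i • monom p x (Function.update r i ⟨0, NeZero.pos p⟩) := by
          refine Eq.trans ?_ (Algebra.smul_def (A := T) (a i) (monom p x (Function.update r i ⟨0, NeZero.pos p⟩))).symm
          rw [hupd, hsplit, ← hxp, ← mul_assoc (x i ^ p), show x i ^ p = x i ^ ((r i : ℕ) + 1) from congrArg _ heq.symm, pow_succ]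
          simp
          ring
        rw [this]
        exact M.smul_mem _ (Submodule.subset_span ⟨_, rfl⟩)
    | zero => rw [zero_mul]; exact M.zero_mem
    | add a b _ _ ha hb => rw [add_mul]; exact M.add_mem ha hb
    | smul c a _ ha => rw [smul_mul_assoc]; exact M.smul_mem c ha
  have htop : ∀ t : T, t ∈ M := by
    intro t
    obtain ⟨q, rfl⟩ := Ideal.Quotient.mk_surjective t
    induction q using MvPolynomial.induction_on with
    | C c =>
      have h1 : monom p x (fun _ => ⟨0, NeZero.pos p⟩) = 1 := by simp [monom]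
      have h2 : Ideal.Quotient.mk I (C c) = c • monom p x (fun _ => ⟨0, NeZero.pos p⟩) := by
        rw [h1]
        exact ((Algebra.smul_def c (1 : T)).trans (mul_one _)).symm
      rw [h2]
      exact M.smul_mem _ (Submodule.subset_span ⟨_, rfl⟩)
    | add a b ha hb => rw [map_add]; exact M.add_mem ha hb
    | mul_X a i ha => rw [map_mul]; exact hstep i _ ha
  let Φ : ((Fin n → Fin p) → R) → T := fun w => ∑ r, w r • monom p x r
  have hΦ : Function.Surjective Φ := fun t => by
    obtain ⟨w, hw⟩ := (Submodule.mem_span_range_iff_exists_fun R).1 (htop t)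
    exact ⟨w, hw⟩
  have hcomp : ⇑π ∘ Φ = fun w : (Fin n → Fin p) → R => ∑ r, algebraMap R S (w r) * monom p y r := by
    funext w
    simp only [Function.comp_apply, Φ, map_sum, map_smul, Algebra.smul_def, map_mul, AlgHom.commutes]
    refine Finset.sum_congr rfl fun r _ => congrArg _ ?_
    exact (map_monom π.toRingHom p x r).trans (by congr 1; exact funext hπx)
  have hb : Function.Bijective (⇑π ∘ Φ) := by rw [hcomp]; exact h
  have hπ : Function.Bijective π := by
    refine ⟨fun s t hst => ?_, hb.2.of_comp⟩
    obtain ⟨w, rfl⟩ := hΦ s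
    obtain ⟨w', rfl⟩ := hΦ t
    rw [hb.1 hst]
  let e : Synt.RelGCIRing R n n F ≃ₐ[R] S := AlgEquiv.ofBijective π hπ
  obtain ⟨b, -⟩ := h.exists_basis
  haveI : Module.Finite R S := Module.Finite.of_basis b
  haveI : Module.Finite R (Synt.RelGCIRing R n n F) := Module.Finite.equiv e.symm.toLinearEquiv
  refine ⟨F, fun q hq => ⟨le_rfl, ?_⟩, ⟨e⟩⟩
  haveI := hq
  rw [Nat.sub_self]
  exact Groth.L19.RootSynt.dim_zero_of_finite (k := q.asIdeal.ResidueField)
    (S := q.asIdeal.Fiber (Synt.RelGCIRing R n n F))

end Groth.L15.Frob
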